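import Mathlib.FieldTheory.Galois.Basic
import Mathlib.Data.Nat.Prime.Basic

/-! Automorphisms of field extensions of prime degree. -/

set_option autoImplicit false

namespace Groth.Agent.Models.K399.GalDeg

open Module

variable {F L : Type*} [Field F] [Field L] [Algebra F L] {ℓ : ℕ}

theorem card_zpowers (hℓ : ℓ.Prime) (h : finrank F L = ℓ) (e : L ≃ₐ[F] L) (he : e ≠ 1) :
    finrank F (IntermediateField.fixedField (Subgroup.zpowers e)) = 1 ∧ orderOf e = ℓ := by
  have hfd : FiniteDimensional F L := FiniteDimensional.of_finrank_pos (by rw [h]; exact hℓ.pos)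
  have h1 := IntermediateField.finrank_fixedField_eq_card (Subgroup.zpowers e)
  have h2 := Module.finrank_mul_finrank F (IntermediateField.fixedField (Subgroup.zpowers e)) L
  rw [h1, h, Nat.card_zpowers] at h2
  have h3 : orderOf e ≠ 1 := fun h => he (orderOf_eq_one_iff.mp h)
  have h4 : orderOf e ∣ ℓ := ⟨_, by rw [mul_comm]; exact h2.symm⟩
  have h5 : orderOf e = ℓ := ((Nat.dvd_prime hℓ).mp h4).resolve_left h3
  refine ⟨?_, h5⟩
  rw [h5] at h2
  exact Nat.eq_of_mul_eq_mul_right hℓ.pos (by rw [h2, one_mul])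

theorem main (hℓ : ℓ.Prime) (h : finrank F L = ℓ) (τ : L →ₐ[F] L) (hne : ∃ x, τ x ≠ x) :
    (∀ x, τ x = x → x ∈ Set.range (algebraMap F L)) ∧ ∀ x, τ^[ℓ] x = x := by
  have hfd : FiniteDimensional F L := FiniteDimensional.of_finrank_pos (by rw [h]; exact hℓ.pos)
  let e : L ≃ₐ[F] L := AlgEquiv.ofBijective τ (Algebra.IsAlgebraic.algHom_bijective τ)
  have he : ∀ x, e x = τ x := fun _ => rfl
  have hne' : e ≠ 1 := by
    rintro h1
    obtain ⟨x, hx⟩ := hne
    apply hx
    rw [← he, h1]
    rfl
  obtain ⟨h1, h2⟩ := card_zpowers hℓ h e hne'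
  constructor
  · intro x hx
    have h3 : IntermediateField.fixedField (Subgroup.zpowers e) = ⊥ :=
      IntermediateField.finrank_eq_one_iff.mp h1
    have h4 : x ∈ IntermediateField.fixedField (Subgroup.zpowers e) := by
      rw [IntermediateField.mem_fixedField_iff]
      intro g hg
      obtain ⟨n, rfl⟩ := Subgroup.mem_zpowers_iff.mp hg
      have h5 : e x = x := hx
      have h6 : e ∈ MulAction.stabilizer (L ≃ₐ[F] L) x := h5
      exact Subgroup.zpow_mem _ h6 n
    rw [h3] at h4
    exact IntermediateField.mem_bot.mp h4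
  · intro x
    have h3 : e ^ ℓ = 1 := by rw [← h2, pow_orderOf_eq_one]
    have h4 : ∀ n, (e ^ n) x = τ^[n] x := by
      intro n
      induction n with
      | zero => rfl
      | succ n ih => rw [pow_succ', AlgEquiv.mul_apply, ih, he, Function.iterate_succ_apply']
    rw [← h4, h3]
    rfl

end Groth.Agent.Models.K399.GalDeg
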