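import Groth.Agent.Models.K399.NewtonOp
import Groth.Agent.S0565
import Mathlib.RingTheory.Localization.FractionRing
import Mathlib.RingTheory.LocalRing.Basic
import Mathlib.RingTheory.Ideal.Maps
import Mathlib.RingTheory.Flat.FaithfullyFlat.Algebra
import Mathlib.LinearAlgebra.Basis.Basic
import Mathlib.LinearAlgebra.FreeModule.Basic
import Mathlib.RingTheory.RegularLocalRing.Defs

/-!
# Pseudo-reflections of prime order on local domains (Kiraly-Luetkebohmert)

Let `τ` be an automorphism of prime order `ℓ` of a local domain `B` such that the ideal generated by the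
elements `τ b - b` is principal. Then `B` is free of rank `ℓ` over its ring of invariants; in
particular the invariants are regular if `B` is.
-/

set_option autoImplicit false
universe u

namespace Groth.Agent.Models.K399.KL

open Groth.Agent.Models.K399.NewtonOp IsLocalRing

section gen

variable {B : Type u} [CommRing B] [IsDomain B] [IsLocalRing B] (τ : B →+* B) {ℓ : ℕ}

omit [IsDomain B] [IsLocalRing B] in
theorem dvd_iter {c : B} (hc : ∀ b, c ∣ τ b - b) (m : ℕ) (b : B) : c ∣ τ^[m] b - b := by
  induction m with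
  | zero => simp
  | succ m ih =>
    rw [Function.iterate_succ_apply']
    have h := dvd_add (hc (τ^[m] b)) ih
    rwa [sub_add_sub_cancel] at h

omit [IsDomain B] [IsLocalRing B] in
/-- If all `τ^m b - b` lie in an additive subgroup then so do the `τ^(m k) b - b`. -/
theorem iter_mem {c : AddSubgroup B} {m : ℕ} (h : ∀ b, τ^[m] b - b ∈ c) (k : ℕ) (b : B) :
    τ^[m * k] b - b ∈ c := by
  induction k with
  | zero => simp
  | succ k ih =>
    rw [Nat.mul_succ, Nat.add_comm, Function.iterate_add_apply]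
    have h1 := c.add_mem (h (τ^[m * k] b)) ih
    rwa [sub_add_sub_cancel] at h1

omit [IsDomain B] [IsLocalRing B] in
theorem iter_mod (hτ : ∀ b, τ^[ℓ] b = b) (a b : ℕ) (h : a ≡ b [MOD ℓ]) (x : B) :
    τ^[a] x = τ^[b] x := by
  have h1 : ∀ n k, τ^[ℓ * k + n] x = τ^[n] x := by
    intro n k
    rw [Nat.add_comm, Function.iterate_add_apply]
    congr 1
    induction k with
    | zero => rfl
    | succ k ih => rw [Nat.mul_succ, Nat.add_comm, Function.iterate_add_apply, ih, hτ]
  rw [← Nat.div_add_mod a ℓ, ← Nat.div_add_mod b ℓ, h1, h1, h]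

theorem exists_inv (hℓ : ℓ.Prime) {m : ℕ} (hm : 0 < m) (hm' : m < ℓ) : ∃ k, m * k ≡ 1 [MOD ℓ] := by
  have hcop : Nat.Coprime m ℓ := (Nat.Coprime.symm ((Nat.Prime.coprime_iff_not_dvd hℓ).mpr fun h =>
    absurd (Nat.le_of_dvd hm h) (by omega)))
  obtain ⟨k, hk⟩ := Nat.exists_mul_mod_eq_one_of_coprime hcop hℓ.one_lt
  exact ⟨k, by
    change m * k % ℓ = 1 % ℓ
    rw [hk.2, Nat.mod_eq_of_lt hℓ.one_lt]⟩

/-- The good element. -/
theorem exists_good (hℓ : ℓ.Prime) (hτ : ∀ b, τ^[ℓ] b = b) {c : B} (hc0 : c ≠ 0) (hc : ∀ b, c ∣ τ b - b)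
    (hcm : c ∈ Ideal.span (Set.range fun b => τ b - b)) :
    ∃ z : B, ∀ m, 0 < m → m < ℓ → ∃ v, IsUnit v ∧ τ^[m] z - z = c * v := by
  have hinj : Function.Injective τ := by
    intro a b hab
    have h1 : τ^[ℓ] a = τ^[ℓ] b := by
      rw [← Nat.succ_pred_eq_of_pos hℓ.pos, Function.iterate_succ_apply, Function.iterate_succ_apply, hab]
    rwa [hτ, hτ] at h1
  have hunit : ∀ b, IsUnit (τ b) → IsUnit b := by
    intro b hb
    have h1 := hb.map (τ ^ (ℓ - 1))
    rw [RingHom.coe_pow, ← Function.iterate_succ_apply, show (ℓ - 1).succ = ℓ from Nat.succ_pred_eq_of_pos hℓ.pos,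
      hτ] at h1
    exact h1
  have hmax : ∀ b, b ∈ maximalIdeal B → τ b ∈ maximalIdeal B := by
    intro b hb h
    exact hb (hunit b h)
  have hmax' : ∀ n b, b ∈ maximalIdeal B → τ^[n] b ∈ maximalIdeal B := by
    intro n b hb
    induction n with
    | zero => exact hb
    | succ n ih => rw [Function.iterate_succ_apply']; exact hmax _ ih
  choose δ hδ using hc
  -- an element with `τ z - z = c * unit`
  obtain ⟨z, hz⟩ : ∃ z, IsUnit (δ z) := by
    by_contra hcon
    push Not at hcon
    have h1 : Ideal.span (Set.range fun b => τ b - b) ≤ Ideal.span {c} * maximalIdeal B := by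
      rw [Ideal.span_le]
      rintro _ ⟨b, rfl⟩
      change τ b - b ∈ _
      rw [hδ b]
      exact Ideal.mul_mem_mul (Ideal.mem_span_singleton_self c) (hcon b)
    obtain ⟨w, hw, hw'⟩ := Ideal.mem_span_singleton_mul.mp (h1 hcm)
    have h2 : w = 1 := mul_left_cancel₀ hc0 (by rw [hw', mul_one])
    exact hw (by rw [h2]; exact isUnit_one)
  by_cases htriv : ∀ b, τ b - b ∈ maximalIdeal B
  · -- trivial action on the residue field
    refine ⟨z, fun m hm hm' => ?_⟩
    obtain ⟨d, hd⟩ := dvd_iter τ (fun b => ⟨δ b, hδ b⟩) m z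
    refine ⟨d, ?_, hd⟩
    by_contra hdu
    have htriv' : ∀ i b, τ^[i] b - b ∈ maximalIdeal B := by
      intro i b
      have h1 := iter_mem τ (c := (maximalIdeal B).toAddSubgroup) (m := 1) (fun b => htriv b) i b
      rwa [one_mul] at h1
    -- `τ^i c = u_i c`
    have hu : ∀ i, ∃ u, τ^[i] c = u * c := by
      intro i
      obtain ⟨e, he⟩ := dvd_iter τ (fun b => ⟨δ b, hδ b⟩) i c
      exact ⟨1 + e, by rw [add_mul, one_mul, mul_comm e c, ← he]; ring⟩
    choose u hu using hu
    have hsum : ∀ b, τ^[m] b - b = c * ∑ i ∈ Finset.range m, u i * τ^[i] (δ b) := by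
      intro b
      have h1 : ∀ n, τ^[n] b - b = c * ∑ i ∈ Finset.range n, u i * τ^[i] (δ b) := by
        intro n
        induction n with
        | zero => simp
        | succ n ih =>
          rw [Finset.sum_range_succ, mul_add, ← ih]
          have h2 : τ^[n + 1] b = τ^[n] b + c * (u n * τ^[n] (δ b)) := by
            rw [Function.iterate_succ_apply, show τ b = b + c * δ b by rw [← hδ b]; ring]
            have h3 : ∀ x y, τ^[n] (x + y) = τ^[n] x + τ^[n] y := fun x y => by
              rw [← RingHom.coe_pow]; exact map_add _ _ _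
            have h4 : ∀ x y, τ^[n] (x * y) = τ^[n] x * τ^[n] y := fun x y => by
              rw [← RingHom.coe_pow]; exact map_mul _ _ _
            rw [h3, h4, hu n]
            ring
          rw [h2]
          ring
      exact h1 m
    have hw : ∀ b, (∑ i ∈ Finset.range m, u i * τ^[i] (δ b)) - (∑ i ∈ Finset.range m, u i) * δ b ∈ maximalIdeal B := by
      intro b
      rw [Finset.sum_mul, ← Finset.sum_sub_distrib]
      refine Ideal.sum_mem _ fun i _ => ?_
      rw [← mul_sub]
      exact Ideal.mul_mem_left _ _ (htriv' i (δ b))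
    have hdz : d = ∑ i ∈ Finset.range m, u i * τ^[i] (δ z) := mul_left_cancel₀ hc0 (by rw [← hd, hsum z])
    have hwm : (∑ i ∈ Finset.range m, u i) ∈ maximalIdeal B := by
      have h1 := hw z
      rw [← hdz] at h1
      have h2 := Ideal.sub_mem _ (show d ∈ maximalIdeal B from hdu) h1
      rw [sub_sub_cancel] at h2
      rcases (Ideal.IsPrime.mem_or_mem inferInstance h2) with h3 | h3
      · exact h3
      · exact absurd hz h3
    have hall : ∀ b, τ^[m] b - b ∈ (Ideal.span {c} * maximalIdeal B).toAddSubgroup := by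
      intro b
      change _ ∈ Ideal.span {c} * maximalIdeal B
      rw [hsum b]
      refine Ideal.mul_mem_mul (Ideal.mem_span_singleton_self c) ?_
      have h1 := Ideal.add_mem _ (hw b) (Ideal.mul_mem_right (δ b) _ hwm)
      rwa [sub_add_cancel] at h1
    obtain ⟨k, hk⟩ := exists_inv hℓ hm hm'
    have h1 := iter_mem τ hall k z
    rw [iter_mod τ hτ _ 1 hk] at h1
    obtain ⟨w, hw1, hw2⟩ := Ideal.mem_span_singleton_mul.mp (show _ ∈ Ideal.span {c} * maximalIdeal B from h1)
    have h2 : w = δ z := mul_left_cancel₀ hc0 (by rw [hw2]; exact hδ z)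
    rw [h2] at hw1
    exact hw1 hz
  · -- non-trivial action on the residue field: `c` is a unit
    push Not at htriv
    obtain ⟨b, hb⟩ := htriv
    have hbu : IsUnit (τ b - b) := by
      by_contra h
      exact hb h
    have hcu : IsUnit c := isUnit_of_dvd_unit ⟨δ b, hδ b⟩ hbu
    obtain ⟨c', hc'⟩ := hcu.exists_right_inv
    refine ⟨b, fun m hm hm' => ⟨c' * (τ^[m] b - b), ?_, by rw [← mul_assoc, hc', one_mul]⟩⟩
    refine (IsUnit.of_mul_eq_one c (by rw [mul_comm]; exact hc')).mul ?_
    by_contra h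
    have hmem : ∀ k, τ^[m * k] b - b ∈ maximalIdeal B := by
      intro k
      induction k with
      | zero => simp
      | succ k ih =>
        have h1 : τ^[m * (k + 1)] b - τ^[m * k] b ∈ maximalIdeal B := by
          have h2 := hmax' (m * k) _ (show τ^[m] b - b ∈ maximalIdeal B from h)
          have h3 : τ^[m * k] (τ^[m] b - b) = τ^[m * k] (τ^[m] b) - τ^[m * k] b := by
            rw [← RingHom.coe_pow]; exact map_sub _ _ _
          rw [h3, ← Function.iterate_add_apply] at h2
          exact h2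
        have h2 := Ideal.add_mem _ h1 ih
        rwa [sub_add_sub_cancel] at h2
    obtain ⟨k, hk⟩ := exists_inv hℓ hm hm'
    have h1 := hmem k
    rw [iter_mod τ hτ _ 1 hk] at h1
    exact h1 hbu

end gen

section main

variable {A B : Type u} [CommRing A] [CommRing B] [IsDomain B] [Algebra A B]
  (τ : B →+* B) {ℓ : ℕ}

/-- **Kiraly-Luetkebohmert** in prime order. -/
theorem exists_basis [IsLocalRing B] (hℓ : ℓ.Prime) (hτ : ∀ b, τ^[ℓ] b = b) (hne : ∃ b, τ b ≠ b)
    (hprin : (Ideal.span (Set.range fun b => τ b - b)).IsPrincipal)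
    (hinj : Function.Injective (algebraMap A B)) (hinv : ∀ b, τ b = b ↔ b ∈ Set.range (algebraMap A B)) :
    Nonempty (Module.Basis (Fin ℓ) A B) := by
  obtain ⟨c, hc⟩ := hprin
  have hcm : c ∈ Ideal.span (Set.range fun b => τ b - b) := by
    rw [hc]; exact Ideal.mem_span_singleton_self c
  have hcd : ∀ b, c ∣ τ b - b := by
    intro b
    have h1 : τ b - b ∈ Ideal.span (Set.range fun b => τ b - b) := Ideal.subset_span ⟨b, rfl⟩
    rw [hc] at h1
    exact Ideal.mem_span_singleton.mp h1
  have hc0 : c ≠ 0 := by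
    rintro rfl
    obtain ⟨b, hb⟩ := hne
    exact hb (sub_eq_zero.mp (zero_dvd_iff.mp (hcd b)))
  obtain ⟨z, hz⟩ := exists_good τ hℓ hτ hc0 hcd hcm
  have hτinj : Function.Injective τ := by
    intro a b hab
    have h1 : τ^[ℓ] a = τ^[ℓ] b := by
      rw [← Nat.succ_pred_eq_of_pos hℓ.pos, Function.iterate_succ_apply, Function.iterate_succ_apply, hab]
    rwa [hτ, hτ] at h1
  let K := FractionRing B
  let T : K →+* K := IsFractionRing.map hτinj
  have hT : ∀ b, T (algebraMap B K b) = algebraMap B K (τ b) := fun b => IsLocalization.map_eq _ b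
  have hTn : ∀ n b, T^[n] (algebraMap B K b) = algebraMap B K (τ^[n] b) := by
    intro n b
    induction n with
    | zero => rfl
    | succ n ih => rw [Function.iterate_succ_apply', ih, hT, Function.iterate_succ_apply']
  have hBK : Function.Injective (algebraMap B K) := IsFractionRing.injective B K
  have hTℓ : ∀ x, T^[ℓ] x = x := by
    intro x
    obtain ⟨a, s, -, rfl⟩ := IsFractionRing.div_surjective (A := B) x
    rw [← RingHom.coe_pow, map_div₀, RingHom.coe_pow, hTn, hTn, hτ, hτ]
  let Z : K := algebraMap B K z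
  have hZ : ∀ m, 0 < m → m < ℓ → T^[m] Z ≠ Z := by
    intro m hm hm' h
    obtain ⟨v, hv, hv'⟩ := hz m hm hm'
    rw [hTn] at h
    have h1 := hBK h
    rw [h1, sub_self] at hv'
    exact (mul_ne_zero hc0 hv.ne_zero) hv'.symm
  let S : AddSubgroup K := (algebraMap B K).range.toAddSubgroup
  have hSz : ∀ x ∈ S, Z * x ∈ S := by
    rintro _ ⟨b, rfl⟩
    exact ⟨z * b, map_mul _ _ _⟩
  have hSD : ∀ k, k < ℓ → ∀ x ∈ S, D T Z k x ∈ S := by
    intro k
    induction k with
    | zero => intro _ x hx; exact hx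
    | succ k ih =>
      intro hk x hx
      obtain ⟨y, hy⟩ := ih (by omega) x hx
      obtain ⟨v, hv, hv'⟩ := hz (k + 1) (Nat.succ_pos k) hk
      obtain ⟨w, hw⟩ := hcd y
      obtain ⟨v', hvv'⟩ := hv.exists_right_inv
      refine ⟨w * v', ?_⟩
      have h1 : T^[k + 1] Z - Z = algebraMap B K (c * v) := by
        rw [← hv', map_sub, hTn]
      have h2 : T (D T Z k x) - D T Z k x = algebraMap B K (c * w) := by
        rw [← hy, hT, ← map_sub, hw]
      have h3 : algebraMap B K (c * v) ≠ 0 := by
        rw [Ne, map_eq_zero_iff _ hBK]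
        exact mul_ne_zero hc0 hv.ne_zero
      rw [D_succ, h1, h2, eq_div_iff h3, ← map_mul]
      congr 1
      calc w * v' * (c * v) = c * w * (v * v') := by ring
        _ = c * w := by rw [hvv', mul_one]
  have hfix : ∀ x ∈ S, T x = x → ∃ a : A, algebraMap B K (algebraMap A B a) = x := by
    rintro _ ⟨b, rfl⟩ h
    rw [hT] at h
    obtain ⟨a, ha⟩ := (hinv b).mp (hBK h)
    exact ⟨a, by rw [ha]⟩
  have hAfix : ∀ a : A, τ (algebraMap A B a) = algebraMap A B a := fun a => (hinv _).mpr ⟨a, rfl⟩
  have hli : LinearIndependent A (fun i : Fin ℓ => z ^ (i : ℕ)) := by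
    rw [Fintype.linearIndependent_iff]
    intro g hg i
    let p : ℕ → K := fun n => if h : n < ℓ then algebraMap B K (algebraMap A B (g ⟨n, h⟩)) else 0
    have hp : ∀ n, T (p n) = p n := by
      intro n
      by_cases h : n < ℓ
      · simp only [p, dif_pos h]
        rw [hT, hAfix]
      · simp only [p, dif_neg h, map_zero]
    have hsum : ∑ n ∈ Finset.range ℓ, p n * Z ^ n = 0 := by
      have h1 := congrArg (algebraMap B K) hg
      rw [map_sum, map_zero] at h1
      rw [← h1, ← Fin.sum_univ_eq_sum_range (fun n => p n * Z ^ n)]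
      refine Finset.sum_congr rfl fun j _ => ?_
      simp only [p, dif_pos j.2]
      rw [Algebra.smul_def, map_mul, map_pow]
    have h0 := mem_of_sum_mem T Z hZ (⊥ : AddSubgroup K) (fun x hx => by
      rw [AddSubgroup.mem_bot] at hx ⊢
      rw [hx, mul_zero]) (fun k hk x hx => by
      rw [AddSubgroup.mem_bot] at hx ⊢
      rw [hx, D_map_zero]) ℓ le_rfl p hp (by rw [hsum]; exact AddSubgroup.zero_mem _) i i.2
    have h2 : algebraMap B K (algebraMap A B (g i)) = 0 := by
      have h3 : p i = 0 := AddSubgroup.mem_bot.mp h0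
      simp only [p, dif_pos i.2] at h3
      exact h3
    exact (map_eq_zero_iff _ hinj).mp ((map_eq_zero_iff _ hBK).mp h2)
  have hsp : ⊤ ≤ Submodule.span A (Set.range fun i : Fin ℓ => z ^ (i : ℕ)) := by
    intro b _
    obtain ⟨p, hp, hpb⟩ := exists_coeffs T Z hZ hℓ.pos hTℓ (algebraMap B K b)
    have h1 := mem_of_sum_mem T Z hZ S hSz hSD ℓ le_rfl p hp (by rw [← hpb]; exact ⟨b, rfl⟩)
    have h2 : ∀ i : Fin ℓ, ∃ a : A, algebraMap B K (algebraMap A B a) = p i := fun i =>
      hfix _ (h1 i i.2) (hp i)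
    choose a ha using h2
    have h3 : b = ∑ i : Fin ℓ, a i • z ^ (i : ℕ) := by
      apply hBK
      rw [hpb, map_sum, ← Fin.sum_univ_eq_sum_range (fun n => p n * Z ^ n)]
      refine Finset.sum_congr rfl fun i _ => ?_
      rw [Algebra.smul_def, map_mul, map_pow, ha]
    rw [h3]
    exact Submodule.sum_mem _ fun i _ => Submodule.smul_mem _ _ (Submodule.subset_span ⟨i, rfl⟩)
  exact ⟨Module.Basis.mk hli hsp⟩

/-- The invariants of a regular local ring are regular. -/
theorem isRegularLocalRing [IsRegularLocalRing B] [IsLocalRing A] (hℓ : ℓ.Prime) (hτ : ∀ b, τ^[ℓ] b = b)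
    (hne : ∃ b, τ b ≠ b)
    (hprin : (Ideal.span (Set.range fun b => τ b - b)).IsPrincipal)
    (hinj : Function.Injective (algebraMap A B)) (hinv : ∀ b, τ b = b ↔ b ∈ Set.range (algebraMap A B)) :
    IsRegularLocalRing A := by
  obtain ⟨bas⟩ := exists_basis τ hℓ hτ hne hprin hinj hinv
  have hfree : Module.Free A B := Module.Free.of_basis bas
  have hfin : Module.Finite A B := Module.Finite.of_basis bas
  have hloc : IsLocalHom (algebraMap A B) := by
    constructor
    intro a ha
    obtain ⟨b, hb⟩ := ha.exists_right_inv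
    have hτb : τ b = b := by
      have h1 : τ (algebraMap A B a) = algebraMap A B a := (hinv _).mpr ⟨a, rfl⟩
      have h2 := congrArg τ hb
      rw [map_mul, h1, map_one, ← hb] at h2
      exact ha.mul_left_cancel h2
    obtain ⟨a', ha'⟩ := (hinv b).mp hτb
    refine IsUnit.of_mul_eq_one a' (hinj ?_)
    rw [map_mul, ha', hb, map_one]
  have hff : Module.FaithfullyFlat A B := Module.FaithfullyFlat.of_flat_of_isLocalHom
  have hnoeth : IsNoetherianRing A := by
    have h1 : IsNoetherian B (TensorProduct A B A) := by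
      have : IsNoetherian B B := inferInstanceAs (IsNoetherianRing B)
      exact isNoetherian_of_linearEquiv (TensorProduct.AlgebraTensorModule.rid A B B).symm
    exact Submodule.IsNoetherian.of_isNoetherian_tensorProduct_of_faithfullyFlat h1
  exact Groth.Agent.S0565.result A B

end main

end Groth.Agent.Models.K399.KL
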