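import Mathlib.LinearAlgebra.Lagrange
import Mathlib.Algebra.Polynomial.Eval.Degree

/-!
# Newton interpolation along the orbit of a ring endomorphism of finite order

`τ` is an endomorphism of a field `K` with `τ^ℓ = 1`, `z` an element with `τ^m z ≠ z` for
`0 < m < ℓ`. The divided differences `D k x = f[z, τ z, …, τ^k z]` of `f(τ^i z) = τ^i x` are used to
show that if a subring `B` is stable under `τ` and `D k`, then `B` is the free module over its invariants
with basis `1, z, …, z^(ℓ-1)`.
-/

set_option autoImplicit false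

namespace Groth.Agent.Models.K399.NewtonOp

variable {K : Type*} [Field K] (τ : K →+* K) (z : K)

/-- The divided differences. -/
noncomputable def D : ℕ → K → K
  | 0 => fun x => x
  | (k + 1) => fun x => (τ (D k x) - D k x) / (τ^[k + 1] z - z)

@[simp] theorem D_zero (x : K) : D τ z 0 x = x := rfl

theorem D_succ (k : ℕ) (x : K) : D τ z (k + 1) x = (τ (D τ z k x) - D τ z k x) / (τ^[k + 1] z - z) := rfl

theorem D_add (k : ℕ) (x y : K) : D τ z k (x + y) = D τ z k x + D τ z k y := by
  induction k with
  | zero => rfl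
  | succ k ih =>
    rw [D_succ, D_succ, D_succ, ih, map_add, ← add_div]
    congr 1
    ring

theorem D_mul (a : K) (ha : τ a = a) (k : ℕ) (x : K) : D τ z k (a * x) = a * D τ z k x := by
  induction k with
  | zero => rfl
  | succ k ih =>
    rw [D_succ, D_succ, ih, map_mul, ha, mul_div_assoc', mul_sub]

theorem D_map_zero (k : ℕ) : D τ z k 0 = 0 := by
  have h := D_add τ z k 0 0
  rw [add_zero] at h
  exact left_eq_add.mp h

theorem D_sum (k : ℕ) {ι : Type*} (s : Finset ι) (f : ι → K) :
    D τ z k (∑ i ∈ s, f i) = ∑ i ∈ s, D τ z k (f i) := by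
  classical
  induction s using Finset.induction_on with
  | empty => simp [D_map_zero]
  | insert a s ha ih => rw [Finset.sum_insert ha, Finset.sum_insert ha, D_add, ih]

variable {ℓ : ℕ} (hz : ∀ m, 0 < m → m < ℓ → τ^[m] z ≠ z)

include hz in
/-- The product rule for multiplication by `z`. -/
theorem D_mul_self (k : ℕ) (hk : k + 1 < ℓ) (x : K) :
    D τ z (k + 1) (z * x) = τ^[k + 1] z * D τ z (k + 1) x + D τ z k x := by
  have hne : ∀ j, j + 1 < ℓ → τ^[j + 1] z - z ≠ 0 := fun j hj =>
    sub_ne_zero.mpr (hz (j + 1) (Nat.succ_pos j) hj)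
  have hrel : ∀ j, j + 1 < ℓ → ∀ y, (τ^[j + 1] z - z) * D τ z (j + 1) y = τ (D τ z j y) - D τ z j y := by
    intro j hj y
    rw [D_succ, mul_div_cancel₀ _ (hne j hj)]
  induction k generalizing x with
  | zero =>
    apply mul_left_cancel₀ (hne 0 hk)
    rw [hrel 0 hk, mul_add, ← mul_assoc, mul_comm (τ^[0 + 1] z - z) (τ^[0 + 1] z), mul_assoc,
      hrel 0 hk]
    simp only [D_zero, map_mul, Function.iterate_succ, Function.iterate_zero, Function.comp, id]
    ring
  | succ k ih =>
    have ih' := ih (by omega) x
    apply mul_left_cancel₀ (hne (k + 1) hk)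
    rw [hrel (k + 1) hk, ih', mul_add, ← mul_assoc, mul_comm (τ^[k + 1 + 1] z - z) (τ^[k + 1 + 1] z),
      mul_assoc, hrel (k + 1) hk, map_add, map_mul]
    have h1 : τ (τ^[k + 1] z) = τ^[k + 1 + 1] z := (Function.iterate_succ_apply' τ (k + 1) z).symm
    rw [h1]
    have h2 := hrel k (by omega) x
    have h3 : τ (D τ z k x) = (τ^[k + 1] z - z) * D τ z (k + 1) x + D τ z k x := by
      rw [h2]; ring
    rw [h3]
    ring

include hz in
theorem D_pow (n k : ℕ) (hnk : n ≤ k) (hk : k < ℓ) :
    D τ z k (z ^ n) = if n = k then 1 else 0 := by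
  induction n generalizing k with
  | zero =>
    rw [pow_zero]
    rcases k with _ | k
    · simp
    · rw [if_neg (by omega)]
      have h1 : ∀ j, D τ z (j + 1) 1 = 0 := by
        intro j
        induction j with
        | zero => rw [D_succ, D_zero, map_one, sub_self, zero_div]
        | succ j ih => rw [D_succ, ih, map_zero, sub_self, zero_div]
      exact h1 k
  | succ n ih =>
    obtain ⟨k, rfl⟩ : ∃ j, k = j + 1 := ⟨k - 1, by omega⟩
    rw [pow_succ', D_mul_self τ z hz k hk, ih (k + 1) (by omega) hk, ih k (by omega) (by omega),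
      if_neg (show ¬ n = k + 1 by omega), mul_zero, zero_add]
    simp only [Nat.add_right_cancel_iff]

include hz in
/-- Recovering the coefficients. -/
theorem D_sum_pow (n : ℕ) (hn : n < ℓ) (p : ℕ → K) (hp : ∀ i, τ (p i) = p i) :
    D τ z n (∑ i ∈ Finset.range (n + 1), p i * z ^ i) = p n := by
  rw [D_sum, Finset.sum_range_succ, D_mul τ z _ (hp n), D_pow τ z hz n n le_rfl hn, if_pos rfl, mul_one,
    Finset.sum_eq_zero, zero_add]
  intro i hi
  have hi' := Finset.mem_range.mp hi
  rw [D_mul τ z _ (hp i), D_pow τ z hz i n hi'.le hn, if_neg hi'.ne, mul_zero]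

include hz in
/-- If a set closed under subtraction and products with `z` contains `D k x` with `x`, it contains the coefficients. -/
theorem mem_of_sum_mem (B : AddSubgroup K) (hBz : ∀ x ∈ B, z * x ∈ B)
    (hD : ∀ k, k < ℓ → ∀ x ∈ B, D τ z k x ∈ B) (n : ℕ) (hn : n ≤ ℓ) (p : ℕ → K) (hp : ∀ i, τ (p i) = p i)
    (h : ∑ i ∈ Finset.range n, p i * z ^ i ∈ B) : ∀ i, i < n → p i ∈ B := by
  induction n with
  | zero => intro i hi; omega
  | succ n ih =>
    have h1 : p n ∈ B := by
      rw [← D_sum_pow τ z hz n (by omega) p hp]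
      exact hD n (by omega) _ h
    have hzn : ∀ j, p n * z ^ j ∈ B := by
      intro j
      induction j with
      | zero => rw [pow_zero, mul_one]; exact h1
      | succ j ihj =>
        rw [pow_succ', mul_left_comm]
        exact hBz _ ihj
    have h2 : ∑ i ∈ Finset.range n, p i * z ^ i ∈ B := by
      have h3 := B.sub_mem h (hzn n)
      rwa [Finset.sum_range_succ, add_sub_cancel_right] at h3
    intro i hi
    rcases Nat.lt_succ_iff_lt_or_eq.mp hi with hi' | rfl
    · exact ih (by omega) h2 i hi'
    · exact h1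

include hz in
/-- Every element is a polynomial in `z` of degree `< ℓ` with invariant coefficients. -/
theorem exists_coeffs (hℓ : 0 < ℓ) (hτ : ∀ x, τ^[ℓ] x = x) (x : K) :
    ∃ p : ℕ → K, (∀ i, τ (p i) = p i) ∧ x = ∑ i ∈ Finset.range ℓ, p i * z ^ i := by
  have hinj : Set.InjOn (fun i => τ^[i] z) (Finset.range ℓ : Set ℕ) := by
    have key : ∀ i j, i < j → j < ℓ → τ^[i] z ≠ τ^[j] z := by
      intro i j hij hj h
      have h1 : τ^[j] z = τ^[i] (τ^[j - i] z) := by
        rw [← Function.iterate_add_apply]
        congr 2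
        omega
      rw [h1] at h
      exact hz (j - i) (by omega) (by omega) ((τ.injective.iterate i h).symm)
    intro i hi j hj hij
    have hi' := Finset.mem_range.mp hi
    have hj' := Finset.mem_range.mp hj
    rcases lt_trichotomy i j with h | h | h
    · exact absurd hij (key i j h hj')
    · exact h
    · exact absurd hij.symm (key j i h hi')
  let P := Lagrange.interpolate (Finset.range ℓ) (fun i => τ^[i] z) (fun i => τ^[i] x)
  have hdeg : P.degree < ℓ := by
    have := Lagrange.degree_interpolate_lt (fun i => τ^[i] x) hinj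
    rwa [Finset.card_range] at this
  have heval : ∀ i, i < ℓ → P.eval (τ^[i] z) = τ^[i] x := fun i hi =>
    Lagrange.eval_interpolate_at_node (fun i => τ^[i] x) hinj (Finset.mem_range.mpr hi)
  have hmap : P.map τ = P := by
    refine Polynomial.eq_of_degrees_lt_of_eval_index_eq (Finset.range ℓ) hinj ?_ ?_ ?_
    · rw [Finset.card_range]
      exact lt_of_le_of_lt Polynomial.degree_map_le hdeg
    · rw [Finset.card_range]
      exact hdeg
    · intro i hi
      have hi' := Finset.mem_range.mp hi
      rw [heval i hi']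
      rcases i with _ | i
      · have h1 : (τ^[0] z) = τ (τ^[ℓ - 1] z) := by
          rw [← Function.iterate_succ_apply' τ, show (ℓ - 1).succ = ℓ by omega, hτ]
          rfl
        rw [h1, Polynomial.eval_map, Polynomial.eval₂_hom, heval _ (by omega), ← Function.iterate_succ_apply' τ,
          show (ℓ - 1).succ = ℓ by omega, hτ]
        rfl
      · rw [Function.iterate_succ_apply' τ, Polynomial.eval_map, Polynomial.eval₂_hom, heval _ (by omega),
          Function.iterate_succ_apply' τ]
  refine ⟨P.coeff, fun i => ?_, ?_⟩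
  · conv_rhs => rw [← hmap]
    rw [Polynomial.coeff_map]
  · have h0 := heval 0 hℓ
    simp only [Function.iterate_zero, id] at h0
    rw [← Polynomial.eval_eq_sum_range' (n := ℓ) (by
      rcases eq_or_ne P 0 with h | h
      · rw [h, Polynomial.natDegree_zero]; exact hℓ
      · exact (Polynomial.natDegree_lt_iff_degree_lt h).mpr hdeg), h0]

end Groth.Agent.Models.K399.NewtonOp
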