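import Groth.Agent.Models.K399.QGen
import Groth.Agent.Models.K382.AdmBase
import Groth.Agent.Models.K382.AdmNorm
import Groth.Agent.Lefpen.H705.ClosedPoint
import Groth.Agent.Models.K381.DedFlat
import Groth.Agent.S5137
import Groth.Agent.S2925
import Groth.Prelude.Def_Curve
import Groth.Prelude.Def_Mor2

/-!
# S16556 from a good model

A good model of a curve `X` with an automorphism `σ`: a regular proper model with an automorphism
extending `σ`, all whose augmentation ideals at fixed points are principal. Its quotient is a regular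
proper model of `Y = X/σ`.
-/

set_option autoImplicit false
universe u

open CategoryTheory CategoryTheory.Limits AlgebraicGeometry

namespace Groth.Agent.Models.K399.QFinal

open Groth.Agent.Sga1.QuotBasic Groth.Agent.Models.K399.QStalk Groth.Agent.Models.K399.QReg
  Groth.Agent.Models.K399.QMain Groth.Agent.Models.K399.QGen

variable {R : Type u} [CommRing R] [IsDomain R] [IsDiscreteValuationRing R]

/-- A regular proper model of `X` on which `σ` extends to `τ`. -/
structure Model (X : Scheme.{u}) (fX : X ⟶ Spec (CommRingCat.of (FractionRing R))) (σ : X ≅ X)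
    (XR : Scheme.{u}) (p : XR ⟶ Spec (CommRingCat.of R)) (j : X ⟶ XR) (τ : XR ≅ XR) : Prop where
  proper : IsProper p
  flat : Flat p
  integral : IsIntegral XR
  regular : ∀ x : XR, IsRegularLocalRing (XR.presheaf.stalk x)
  pullback : IsPullback j fX p (Spec.map (CommRingCat.ofHom (algebraMap R (FractionRing R))))
  overR : τ.hom ≫ p = p
  comm : j ≫ τ.hom = σ.hom ≫ j

/-- All augmentation ideals are principal. -/
def Good {XR : Scheme.{u}} (τ : XR ≅ XR) : Prop :=
  ∀ (z : XR) (hz : τ.hom z = z), (augIdeal τ.hom z hz).IsPrincipal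

theorem isDominant_of_isPullback {X XR : Scheme.{u}} {fX : X ⟶ Spec (CommRingCat.of (FractionRing R))}
    {p : XR ⟶ Spec (CommRingCat.of R)} {j : X ⟶ XR} [Flat p]
    (h : IsPullback j fX p (Spec.map (CommRingCat.ofHom (algebraMap R (FractionRing R))))) : IsDominant j := by
  constructor
  change Dense (Set.range _)
  intro x
  obtain ⟨c, hc⟩ := K382.AdmBase.exists_generization h x
  exact hc.mem_closed isClosed_closure (subset_closure ⟨c, rfl⟩)

theorem comm_pow {X XR : Scheme.{u}} {σ : X ≅ X} {j : X ⟶ XR} {τ : XR ≅ XR} (h : j ≫ τ.hom = σ.hom ≫ j)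
    (n : ℕ) : j ≫ ((show Aut XR from τ) ^ n).hom = ((show Aut X from σ) ^ n).hom ≫ j := by
  induction n with
  | zero =>
    rw [pow_zero, pow_zero]
    change j ≫ 𝟙 _ = 𝟙 _ ≫ j
    rw [Category.comp_id, Category.id_comp]
  | succ n ih =>
    rw [pow_succ, pow_succ]
    change j ≫ τ.hom ≫ ((show Aut XR from τ) ^ n).hom = (σ.hom ≫ ((show Aut X from σ) ^ n).hom) ≫ j
    rw [← Category.assoc, h, Category.assoc, ih, Category.assoc]

theorem over_pow {XR S : Scheme.{u}} {τ : XR ≅ XR} {p : XR ⟶ S} (h : τ.hom ≫ p = p) (n : ℕ) :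
    ((show Aut XR from τ) ^ n).hom ≫ p = p := by
  induction n with
  | zero => rw [pow_zero]; exact Category.id_comp p
  | succ n ih =>
    rw [pow_succ]
    change (τ.hom ≫ ((show Aut XR from τ) ^ n).hom) ≫ p = p
    rw [Category.assoc, ih, h]

theorem model_pow {X : Scheme.{u}} {fX : X ⟶ Spec (CommRingCat.of (FractionRing R))} {σ : X ≅ X}
    {XR : Scheme.{u}} {p : XR ⟶ Spec (CommRingCat.of R)} {j : X ⟶ XR} {τ : XR ≅ XR}
    (hM : Model X fX σ XR p j τ) {ℓ : ℕ} (h : (show Aut X from σ) ^ ℓ = 1) :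
    (show Aut XR from τ) ^ ℓ = 1 := by
  have := hM.proper
  have := hM.flat
  have := hM.integral
  have hd := isDominant_of_isPullback hM.pullback
  apply Iso.ext
  refine ext_of_isDominant_of_isSeparated p ?_ j ?_
  · rw [over_pow hM.overR]
    exact (Category.id_comp p).symm
  · rw [comm_pow hM.comm, h]
    change 𝟙 _ ≫ j = j ≫ 𝟙 _
    rw [Category.comp_id, Category.id_comp]

/-- Two quotients of the same action are isomorphic. -/
theorem exists_iso {X Y Y' : Scheme.{u}} {G G' : Type u} [Group G] [Group G'] [Finite G] [Finite G']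
    {ρ : G →* Aut X} {ρ' : G' →* Aut X} {p : X ⟶ Y} {p' : X ⟶ Y'} (hp : SGA1.IsQuot ρ p)
    (hp' : SGA1.IsQuot ρ' p') (h : ∀ g, (ρ g).hom ≫ p' = p') (h' : ∀ g, (ρ' g).hom ≫ p = p) :
    ∃ e : Y ≅ Y', p ≫ e.hom = p' := by
  obtain ⟨a, ha, -⟩ := Groth.Agent.S2925.result ρ p hp Y' p' h
  obtain ⟨b, hb, -⟩ := Groth.Agent.S2925.result ρ' p' hp' Y p h'
  refine ⟨⟨a, b, ?_, ?_⟩, ha⟩
  · obtain ⟨c, -, hc⟩ := Groth.Agent.S2925.result ρ p hp Y p hp.inv
    exact (hc _ (by
      change p ≫ a ≫ b = p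
      rw [← Category.assoc, ha, hb])).trans (hc _ (Category.comp_id p)).symm
  · obtain ⟨c, -, hc⟩ := Groth.Agent.S2925.result ρ' p' hp' Y' p' hp'.inv
    exact (hc _ (by
      change p' ≫ b ≫ a = p'
      rw [← Category.assoc, hb, ha])).trans (hc _ (Category.comp_id p')).symm

theorem epi_of_isQuot {X Y Z : Scheme.{u}} {G : Type u} [Group G] [Finite G] {ρ : G →* Aut X} {p : X ⟶ Y}
    (hp : SGA1.IsQuot ρ p) {a b : Y ⟶ Z} (h : p ≫ a = p ≫ b) : a = b := by
  obtain ⟨c, -, hc⟩ := Groth.Agent.S2925.result ρ p hp Z (p ≫ a) (fun g => by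
    rw [← Category.assoc, hp.inv])
  exact (hc _ rfl).trans (hc _ h.symm).symm

/-- The action on the base change. -/
noncomputable def bcAct {X XR S S' : Scheme.{u}} {j : X ⟶ XR} {fX : X ⟶ S'} {p : XR ⟶ S} {b : S' ⟶ S}
    (h : IsPullback j fX p b) {G : Type u} [Group G] (ρ : G →* Aut XR) (hρ : ∀ g, (ρ g).hom ≫ p = p) :
    G →* Aut X where
  toFun g :=
    { hom := h.lift (j ≫ (ρ g).hom) fX (by rw [Category.assoc, hρ, h.w])
      inv := h.lift (j ≫ (ρ g⁻¹).hom) fX (by rw [Category.assoc, hρ, h.w])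
      hom_inv_id := by
        apply h.hom_ext
        · rw [Category.assoc, h.lift_fst, ← Category.assoc, h.lift_fst, Category.assoc, hom_inv_comp,
            Category.comp_id, Category.id_comp]
        · rw [Category.assoc, h.lift_snd, h.lift_snd, Category.id_comp]
      inv_hom_id := by
        apply h.hom_ext
        · rw [Category.assoc, h.lift_fst, ← Category.assoc, h.lift_fst, Category.assoc, hom_comp_inv,
            Category.comp_id, Category.id_comp]
        · rw [Category.assoc, h.lift_snd, h.lift_snd, Category.id_comp] }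
  map_one' := by
    apply Iso.ext
    apply h.hom_ext
    · change h.lift _ _ _ ≫ j = 𝟙 X ≫ j
      rw [h.lift_fst, hom_one, Category.comp_id, Category.id_comp]
    · change h.lift _ _ _ ≫ fX = 𝟙 X ≫ fX
      rw [h.lift_snd, Category.id_comp]
  map_mul' g g' := by
    apply Iso.ext
    apply h.hom_ext
    · change h.lift _ _ _ ≫ j = (h.lift (j ≫ (ρ g').hom) fX _ ≫ h.lift (j ≫ (ρ g).hom) fX _) ≫ j
      rw [h.lift_fst, Category.assoc, h.lift_fst, ← Category.assoc, h.lift_fst, Category.assoc, hom_mul]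
    · change h.lift _ _ _ ≫ fX = (h.lift (j ≫ (ρ g').hom) fX _ ≫ h.lift (j ≫ (ρ g).hom) fX _) ≫ fX
      rw [h.lift_snd, Category.assoc, h.lift_snd, h.lift_snd]

theorem bcAct_fst {X XR S S' : Scheme.{u}} {j : X ⟶ XR} {fX : X ⟶ S'} {p : XR ⟶ S} {b : S' ⟶ S}
    (h : IsPullback j fX p b) {G : Type u} [Group G] (ρ : G →* Aut XR) (hρ : ∀ g, (ρ g).hom ≫ p = p) (g : G) :
    (bcAct h ρ hρ g).hom ≫ j = j ≫ (ρ g).hom := h.lift_fst _ _ _

theorem bcAct_snd {X XR S S' : Scheme.{u}} {j : X ⟶ XR} {fX : X ⟶ S'} {p : XR ⟶ S} {b : S' ⟶ S}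
    (h : IsPullback j fX p b) {G : Type u} [Group G] (ρ : G →* Aut XR) (hρ : ∀ g, (ρ g).hom ≫ p = p) (g : G) :
    (bcAct h ρ hρ g).hom ≫ fX = fX := h.lift_snd _ _ _

/-- **S16556 from a good model.** -/
theorem final
    (X Y : Scheme.{u}) (fX : X ⟶ Spec (CommRingCat.of (FractionRing R))) (fY : Y ⟶ Spec (CommRingCat.of (FractionRing R)))
    (hX : Curve.IsSmoothProperCurve (FractionRing R) X fX)
    (hY : Curve.IsSmoothProperCurve (FractionRing R) Y fY)
    (f : X ⟶ Y) (hf : f ≫ fY = fX) (ℓ : ℕ) (hℓ : ℓ.Prime) (hdeg : Mor2.IsFinLocFreeOfDeg ℓ f)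
    (σ : X ≅ X) (hσ : σ.hom ≠ 𝟙 X) (hσf : σ.hom ≫ f = f)
    {XR : Scheme.{u}} {p : XR ⟶ Spec (CommRingCat.of R)} {jX : X ⟶ XR} {τ : XR ≅ XR}
    (hM : Model X fX σ XR p jX τ) (hG : Good τ) :
    ∃ (XR YR : Scheme.{u}) (p : XR ⟶ Spec (CommRingCat.of R)) (q : YR ⟶ Spec (CommRingCat.of R))
      (jX : X ⟶ XR) (jY : Y ⟶ YR) (φ : XR ⟶ YR),
      IsProper p ∧ Flat p ∧ IsIntegral XR ∧ (∀ x : XR, IsRegularLocalRing (XR.presheaf.stalk x)) ∧
      IsPullback jX fX p (Spec.map (CommRingCat.ofHom (algebraMap R (FractionRing R)))) ∧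
      IsProper q ∧ Flat q ∧ IsIntegral YR ∧ (∀ y : YR, IsRegularLocalRing (YR.presheaf.stalk y)) ∧
      IsPullback jY fY q (Spec.map (CommRingCat.ofHom (algebraMap R (FractionRing R)))) ∧
      IsFinite φ ∧ φ ≫ q = p ∧ jX ≫ φ = f ≫ jY := by
  obtain ⟨hXp, hXs, hXi, hXd⟩ := hX
  obtain ⟨hYp, hYs, hYi, hYd⟩ := hY
  have hM' := hM
  obtain ⟨h1, h2, h3, hreg, hpb, hover, hcomm⟩ := hM
  obtain ⟨⟨hfin, hflat, hlfp⟩, hrk⟩ := hdeg
  have hsurj : Surjective f := by
    rw [← Scheme.Hom.one_le_finrank_iff_surjective]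
    intro y
    rw [hrk]
    exact hℓ.one_lt.le
  have hYn : ∀ y : Y, IsIntegrallyClosed (Y.presheaf.stalk y) := by
    intro y
    have := Groth.Agent.Lefpen.H705.ClosedPoint.isRegularLocalRing_stalk fY y
    exact Groth.Agent.CurvesC.RegNormal.isIntegrallyClosed _
  have hσX : σ.hom ≫ fX = fX := by rw [← hf, ← Category.assoc, hσf]
  have hpow := pow_eq_one f σ fX hσX hℓ hrk hσf hσ
  have hfq := isQuot f σ fX hσX hℓ hrk hσf hσ hYn
  have hfinσ := finite σ hℓ.pos hpow
  have hpowR := model_pow hM' hpow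
  have hfinR := finite τ hℓ.pos hpowR
  have hdimX : ∀ c : X, ringKrullDim (X.presheaf.stalk c) ≤ 1 := fun c =>
    (K381.DedFlat.ringKrullDim_stalk_le X c).trans hXd.le
  have hdim : ∀ x : XR, ringKrullDim (XR.presheaf.stalk x) ≤ 2 :=
    K382.AdmBase.ringKrullDim_stalk_le_two hpb (fun x => by
      have := hreg x
      exact Groth.Agent.CurvesC.RegNormal.isDomain _) hdimX
  obtain ⟨YR, q, φ, hφq, hφfin, hφs, hqp, hYRi, hYRreg, hφ⟩ :=
    exists_quotient p hreg hdim τ hover hℓ hpowR hG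
  have hρ : ∀ g, (act τ g).hom ≫ p = p := by
    intro g
    obtain ⟨n, rfl⟩ := exists_pow τ hℓ.pos hpowR g
    rw [map_pow]
    exact over_pow hover n
  -- the generic fibre of the quotient
  let b := Spec.map (CommRingCat.ofHom (algebraMap R (FractionRing R)))
  have hbflat : Flat b := by
    rw [Flat.SpecMap_iff]
    exact (RingHom.flat_algebraMap_iff).mpr inferInstance
  have hPB : IsPullback (pullback.fst q b) (pullback.snd q b) q b := IsPullback.of_hasPullback _ _
  let p' : X ⟶ pullback q b := pullback.lift (jX ≫ φ) fX (by rw [Category.assoc, hφq, hpb.w])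
  have hp'1 : p' ≫ pullback.fst q b = jX ≫ φ := pullback.lift_fst _ _ _
  have hp'2 : p' ≫ pullback.snd q b = fX := pullback.lift_snd _ _ _
  have hXpb : IsPullback jX p' φ (pullback.fst q b) := by
    refine (IsPullback.of_right ?_ hp'1 hPB.flip).flip
    rw [hp'2, hφq]
    exact hpb.flip
  let ρ' := bcAct hpb (act τ) hρ
  have hρ'1 : ∀ g, (ρ' g).hom ≫ jX = jX ≫ (act τ g).hom := bcAct_fst hpb (act τ) hρ
  have hρ'2 : ∀ g, (ρ' g).hom ≫ p' = p' := by
    intro g
    apply pullback.hom_ext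
    · rw [Category.assoc, hp'1, ← Category.assoc, hρ'1, Category.assoc, hφ.inv]
    · rw [Category.assoc, hp'2]
      exact bcAct_snd hpb (act τ) hρ g
  have hp'q := Groth.Agent.S5137.result (act τ) φ hφ q b (pullback.fst q b) (pullback.snd q b) hPB jX p' hXpb
    ρ' hρ'1 hρ'2
  have hmono : Mono jX := by
    have : IsOpenImmersion jX := K382.AdmBase.isOpenImmersion hpb
    infer_instance
  have hρ'3 : ∀ n : ℕ, (ρ' (gen τ ^ n)).hom = ((show Aut X from σ) ^ n).hom := by
    intro n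
    rw [← cancel_mono jX, hρ'1, map_pow]
    exact comm_pow hcomm n
  obtain ⟨e, he⟩ := exists_iso hfq hp'q (fun g => by
      obtain ⟨n, rfl⟩ := exists_pow σ hℓ.pos hpow g
      have h4 : (act σ (gen σ ^ n)).hom = (ρ' (gen τ ^ n)).hom := by
        rw [hρ'3, map_pow]
        rfl
      rw [h4, hρ'2])
    (fun g => by
      obtain ⟨n, rfl⟩ := exists_pow τ hℓ.pos hpowR g
      rw [hρ'3]
      exact over_pow hσf n)
  have he2 : e.hom ≫ pullback.snd q b = fY := by
    apply epi_of_isQuot hfq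
    rw [← Category.assoc, he, hp'2, hf]
  have hYpb : IsPullback (e.hom ≫ pullback.fst q b) fY q b :=
    IsPullback.of_iso hPB e.symm (Iso.refl _) (Iso.refl _) (Iso.refl _) (by simp) (by
      simp [← he2]) (by simp) (by simp)
  have hjφ : jX ≫ φ = f ≫ e.hom ≫ pullback.fst q b := by
    rw [← Category.assoc, he, hp'1]
  have hqflat : Flat q := by
    have hd := isDominant_of_isPullback hpb
    have hred : IsReduced YR := inferInstance
    have hqc : QuasiCompact (jX ≫ φ) := by
      have : QuasiCompact jX := MorphismProperty.of_isPullback (P := @QuasiCompact) hpb.flip inferInstance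
      infer_instance
    have hdd : IsDominant (jX ≫ φ) := inferInstance
    refine K382.AdmNorm.flat_of_isDominant (K := FractionRing R) (f := fX) (g := jX ≫ φ) ?_
    rw [Category.assoc, hφq, hpb.w]
  exact ⟨XR, YR, p, q, jX, e.hom ≫ pullback.fst q b, φ, h1, h2, h3, hreg, hpb, hqp, hqflat, hYRi, hYRreg,
    hYpb, hφfin, hφq, hjφ⟩

end Groth.Agent.Models.K399.QFinal
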