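import Groth.Agent.Models.K399.QReg
import Groth.Agent.ZeroCyc.K754.QuotProj
import Groth.Agent.Resolve.K372.RegSurf
import Groth.Agent.CurvesB.RegModelImage
import Groth.Agent.CurvesC.RegNormal

/-!
# The quotient of a regular model by an automorphism of prime order

`exists_quotient`: let `X` be an integral regular scheme of dimension at most two, proper over a
Noetherian scheme `S`, `σ` an `S`-automorphism with `σ^ℓ = 1`, `ℓ` prime, such that at every fixed point
`z` of `σ` the ideal of the stalk generated by the `σ b - b` is principal. Then the quotient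
`φ : X ⟶ Y` by the group generated by `σ` exists, `φ` is finite, `Y` is integral, regular and proper
over `S`.
-/

set_option autoImplicit false
universe u

open CategoryTheory CategoryTheory.Limits AlgebraicGeometry

namespace Groth.Agent.Models.K399.QMain

open Groth.Agent.Sga1.QuotBasic Groth.Agent.Models.K399.QStalk Groth.Agent.Models.K399.QReg

variable {X : Scheme.{u}}

/-- The group generated by an automorphism, with its action. -/
noncomputable abbrev act (σ : X ≅ X) : Subgroup.zpowers (show Aut X from σ) →* Aut X :=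
  (Subgroup.zpowers (show Aut X from σ)).subtype

/-- The generator. -/
def gen (σ : X ≅ X) : Subgroup.zpowers (show Aut X from σ) := ⟨σ, Subgroup.mem_zpowers _⟩

theorem act_gen (σ : X ≅ X) : (act σ (gen σ)).hom = σ.hom := rfl

theorem gen_pow (σ : X ≅ X) {ℓ : ℕ} (h : (show Aut X from σ) ^ ℓ = 1) : gen σ ^ ℓ = 1 :=
  Subtype.ext h

theorem exists_pow (σ : X ≅ X) {ℓ : ℕ} (hℓ : 0 < ℓ) (h : (show Aut X from σ) ^ ℓ = 1)
    (g : Subgroup.zpowers (show Aut X from σ)) : ∃ n : ℕ, g = gen σ ^ n := by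
  obtain ⟨g, hg⟩ := g
  have hfin : IsOfFinOrder (show Aut X from σ) := isOfFinOrder_iff_pow_eq_one.mpr ⟨ℓ, hℓ, h⟩
  obtain ⟨n, hn⟩ := (hfin.mem_powers_iff_mem_zpowers).mpr hg
  exact ⟨n, Subtype.ext hn.symm⟩

theorem finite (σ : X ≅ X) {ℓ : ℕ} (hℓ : 0 < ℓ) (h : (show Aut X from σ) ^ ℓ = 1) :
    Finite (Subgroup.zpowers (show Aut X from σ)) := by
  have hfin : IsOfFinOrder (show Aut X from σ) := isOfFinOrder_iff_pow_eq_one.mpr ⟨ℓ, hℓ, h⟩
  exact hfin.finite_zpowers

/-- Regularity of the quotient. -/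
theorem regular [IsIntegral X] (hreg : ∀ x : X, IsRegularLocalRing (X.presheaf.stalk x))
    (σ : X ≅ X) {ℓ : ℕ} (hℓ : ℓ.Prime) (h : (show Aut X from σ) ^ ℓ = 1)
    (hprin : ∀ (z : X) (hz : σ.hom z = z), (augIdeal σ.hom z hz).IsPrincipal)
    {Y : Scheme.{u}} (p : X ⟶ Y) (hp : SGA1.IsQuot (act σ) p) (y : Y) :
    IsRegularLocalRing (Y.presheaf.stalk y) := by
  have hfin := finite σ hℓ.pos h
  obtain ⟨z, rfl⟩ := surjective_of_isQuot hp y
  have hiter : ∀ (w : X), σ.hom w = w → ∀ g, (act σ g).hom w = w := by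
    intro w hw g
    obtain ⟨n, rfl⟩ := exists_pow σ hℓ.pos h g
    induction n with
    | zero => rw [pow_zero, hom_one]; rfl
    | succ n ih =>
      rw [pow_succ, mul_apply, act_gen, hw, ih]
  by_cases hz : σ.hom z = z
  · exact regular_of_fixed hp z (hiter z hz) (gen σ) (exists_pow σ hℓ.pos h) hℓ (gen_pow σ h) (hreg z)
      (hprin z hz)
  · refine regular_of_free hp (p z) ?_ fun w _ => hreg w
    intro w hw g hgw
    by_contra hg1
    -- `σ` is a power of `g`
    obtain ⟨n, hn⟩ := exists_pow σ hℓ.pos h g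
    have hnd : ¬ ℓ ∣ n := by
      rintro ⟨m, rfl⟩
      apply hg1
      rw [hn, pow_mul, gen_pow σ h, one_pow]
    have hcop : Nat.Coprime n ℓ := ((Nat.Prime.coprime_iff_not_dvd hℓ).mpr hnd).symm
    obtain ⟨k, hk⟩ := Nat.exists_mul_mod_eq_one_of_coprime hcop hℓ.one_lt
    have hgk : g ^ k = gen σ := by
      rw [hn, ← pow_mul, ← Nat.div_add_mod (n * k) ℓ, hk.2, pow_add, pow_mul, gen_pow σ h, one_pow, one_mul,
        pow_one]
    have hσw : σ.hom w = w := by
      rw [← act_gen, ← hgk]
      have : ∀ k : ℕ, (act σ (g ^ k)).hom w = w := by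
        intro k
        induction k with
        | zero => rw [pow_zero, hom_one]; rfl
        | succ k ih => rw [pow_succ, mul_apply, hgw, ih]
      exact this k
    obtain ⟨g', hg'⟩ := exists_apply_eq_of_isQuot hp hw
    apply hz
    rw [← hg', hiter w hσw, hσw]

theorem exists_quotient {S : Scheme.{u}} [IsNoetherian S] (w : X ⟶ S) [IsProper w] [IsIntegral X]
    (hreg : ∀ x : X, IsRegularLocalRing (X.presheaf.stalk x))
    (hdim : ∀ x : X, ringKrullDim (X.presheaf.stalk x) ≤ 2)
    (σ : X ≅ X) (hσ : σ.hom ≫ w = w) {ℓ : ℕ} (hℓ : ℓ.Prime) (h : (show Aut X from σ) ^ ℓ = 1)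
    (hprin : ∀ (z : X) (hz : σ.hom z = z), (augIdeal σ.hom z hz).IsPrincipal) :
    ∃ (Y : Scheme.{u}) (q : Y ⟶ S) (φ : X ⟶ Y), φ ≫ q = w ∧ IsFinite φ ∧ Surjective φ ∧ IsProper q ∧
      IsIntegral Y ∧ (∀ y : Y, IsRegularLocalRing (Y.presheaf.stalk y)) ∧ SGA1.IsQuot (act σ) φ := by
  have hfin := finite σ hℓ.pos h
  have hρ : ∀ g, (act σ g).hom ≫ w = w := by
    intro g
    obtain ⟨n, rfl⟩ := exists_pow σ hℓ.pos h g
    induction n with
    | zero => rw [pow_zero, hom_one, Category.id_comp]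
    | succ n ih => rw [pow_succ, hom_mul, Category.assoc, ih, act_gen, hσ]
  obtain ⟨Y, φ, q, hq, hφ, -⟩ := K754.QuotQProj.exists_isQuot (act σ) hρ
    (K372.RegSurf.isQuasiProjective_of_regular w hreg hdim)
  have hsurj : Surjective φ := ⟨surjective_of_isQuot hφ⟩
  have hregY : ∀ y : Y, IsRegularLocalRing (Y.presheaf.stalk y) := regular hreg σ hℓ h hprin φ hφ
  have hprop : IsProper q := K754.QuotProj.isProper_of_isQuot hφ hq hρ
  obtain ⟨-, -, hfinite, -⟩ := Groth.Agent.S2909.result (act σ) φ hφ w q hq hρ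
  have hred : IsReduced Y := by
    have : ∀ y : Y, _root_.IsReduced (Y.presheaf.stalk y) := fun y => by
      have := hregY y
      have : IsDomain (Y.presheaf.stalk y) := Groth.Agent.CurvesC.RegNormal.isDomain _
      infer_instance
    exact isReduced_of_isReduced_stalk Y
  have hirr : IrreducibleSpace Y := by
    have h1 := (IrreducibleSpace.isIrreducible_univ X).image φ φ.continuous.continuousOn
    rw [Set.image_univ, hsurj.surj.range_eq] at h1
    exact (irreducibleSpace_def Y).mpr h1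
  exact ⟨Y, q, φ, hq, hfinite inferInstance, hsurj, hprop, isIntegral_of_irreducibleSpace_of_isReduced Y,
    hregY, hφ⟩

end Groth.Agent.Models.K399.QMain
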