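import Groth.Agent.Models.K399.GalDeg
import Groth.Agent.Models.K399.QMain
import Groth.Agent.Curves.K385.CurveFF
import Groth.Agent.Ega3B.NormalBirational
import Mathlib.AlgebraicGeometry.Morphisms.FlatRank

/-!
# Galois covers of prime degree are quotients

`f : X ⟶ Y` finite flat of prime degree `ℓ` between integral schemes, `Y` normal, `σ` a non-trivial
automorphism of `X` over `Y`. Then `σ^ℓ = 1` and `f` is the quotient of `X` by the group generated by
`σ`.
-/

set_option autoImplicit false
set_option linter.style.haveILetI false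
universe u

open CategoryTheory CategoryTheory.Limits AlgebraicGeometry

namespace Groth.Agent.Models.K399.QGen

open Groth.Agent.Sga1.QuotBasic Groth.Agent.Models.K399.QStalk Groth.Agent.Models.K399.QReg
  Groth.Agent.Models.K399.QMain Groth.Agent.K385.CurveFF

variable {X Y : Scheme.{u}} [IsIntegral X] [IsIntegral Y]

theorem map_gen (σ : X ≅ X) : σ.hom (genericPoint X) = genericPoint X :=
  map_genericPoint σ.hom

/-- An endomorphism over a separated base acting trivially on the function field is the identity. -/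
theorem eq_id {S : Scheme.{u}} (s : X ⟶ S) [IsSeparated s] (σ : X ⟶ X) (hs : σ ≫ s = s)
    (hη : σ (genericPoint X) = genericPoint X)
    (hid : ∀ b, stalkAct σ (genericPoint X) hη b = b) : σ = 𝟙 X := by
  have h1 : Spec.map (X.presheaf.stalkSpecializes (specializes_of_eq hη) ≫ σ.stalkMap (genericPoint X)) ≫
      X.fromSpecStalk (genericPoint X) = X.fromSpecStalk (genericPoint X) ≫ σ := by
    rw [Spec.map_comp, Category.assoc, Scheme.SpecMap_stalkSpecializes_fromSpecStalk,
      Scheme.SpecMap_stalkMap_fromSpecStalk]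
  have h2 : X.presheaf.stalkSpecializes (specializes_of_eq hη) ≫ σ.stalkMap (genericPoint X) = 𝟙 _ := by
    ext b
    exact hid b
  rw [h2, Spec.map_id, Category.id_comp] at h1
  have hdom : IsDominant (X.fromSpecStalk (genericPoint X)) := by
    constructor
    change Dense (Set.range _)
    rw [dense_iff_closure_eq, Set.eq_univ_iff_forall]
    intro x
    have h3 : genericPoint X ∈ Set.range (X.fromSpecStalk (genericPoint X)) := by
      rw [Scheme.range_fromSpecStalk]
      exact specializes_rfl
    have h4 := closure_mono (Set.singleton_subset_iff.mpr h3)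
    rw [(genericPoint_spec X).def] at h4
    exact h4 trivial
  exact ext_of_isDominant_of_isSeparated s (by rw [hs, Category.id_comp]) (X.fromSpecStalk (genericPoint X))
    (by rw [← h1, Category.comp_id])

variable (f : X ⟶ Y) [IsFinite f] [Flat f] [Surjective f] {ℓ : ℕ} (σ : X ≅ X)

section

variable (hf : f (genericPoint X) = genericPoint Y)

/-- The action on the function field as an algebra map. -/
theorem stalkAct_ffm (hσf : σ.hom ≫ f = f) (a : Y.functionField) :
    stalkAct σ.hom (genericPoint X) (map_gen σ) ((ffm f hf).hom a) = (ffm f hf).hom a := by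
  obtain ⟨V, hV, t, rfl⟩ := TopCat.Presheaf.exists_germ_eq Y.presheaf a
  have hV' : f (genericPoint X) ∈ V := by rw [hf]; exact hV
  have h1 : (ffm f hf).hom (Y.presheaf.germ V (genericPoint Y) hV t) =
      X.presheaf.germ (f ⁻¹ᵁ V) (genericPoint X) hV' (f.app V t) := by
    have h2 : Y.presheaf.germ V (genericPoint Y) hV ≫ ffm f hf = f.app V ≫ X.presheaf.germ (f ⁻¹ᵁ V) (genericPoint X) hV' := by
      unfold ffm
      rw [TopCat.Presheaf.germ_stalkSpecializes_assoc, Scheme.Hom.germ_stalkMap]
    exact congrArg (fun k => k.hom t) h2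
  rw [h1]
  have h2 := stalkAct_germ σ.hom (genericPoint X) (map_gen σ) (f ⁻¹ᵁ V) hV' (f.app V t)
  refine h2.trans ?_
  have h3 : ∀ (q : X ⟶ Y) (hq : q = f) (hV'' : q (genericPoint X) ∈ V),
      X.presheaf.germ (q ⁻¹ᵁ V) (genericPoint X) hV'' (q.app V t) =
      X.presheaf.germ (f ⁻¹ᵁ V) (genericPoint X) hV' (f.app V t) := by
    rintro _ rfl _
    rfl
  exact h3 (σ.hom ≫ f) hσf _

/-- The data at the generic point. -/
theorem generic {S : Scheme.{u}} (s : X ⟶ S) [IsSeparated s] (hs : σ.hom ≫ s = s) (hℓ : ℓ.Prime)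
    (hdeg : ∀ y : Y, f.finrank y = ℓ) (hσf : σ.hom ≫ f = f) (hσ : σ.hom ≠ 𝟙 X) :
    (∀ b, stalkAct σ.hom (genericPoint X) (map_gen σ) b = b → b ∈ Set.range (ffm f hf).hom) ∧
      ∀ b, (stalkAct σ.hom (genericPoint X) (map_gen σ))^[ℓ] b = b := by
  letI := (ffm f hf).hom.toAlgebra
  have hfr := finrank_functionField f hf ℓ hdeg
  let τ : X.functionField →ₐ[Y.functionField] X.functionField :=
    { stalkAct σ.hom (genericPoint X) (map_gen σ) with
      commutes' := stalkAct_ffm f σ hf hσf }
  refine GalDeg.main hℓ hfr τ ?_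
  by_contra hcon
  push Not at hcon
  exact hσ (eq_id s σ.hom hs (map_gen σ) hcon)

end

theorem pow_eq_one {S : Scheme.{u}} (s : X ⟶ S) [IsSeparated s] (hs : σ.hom ≫ s = s) (hℓ : ℓ.Prime)
    (hdeg : ∀ y : Y, f.finrank y = ℓ) (hσf : σ.hom ≫ f = f) (hσ : σ.hom ≠ 𝟙 X) :
    (show Aut X from σ) ^ ℓ = 1 := by
  have h1 := (generic f σ (map_genericPoint f) s hs hℓ hdeg hσf hσ).2
  have h2 : ∀ n : ℕ, ((show Aut X from σ) ^ n).hom ≫ s = s := by
    intro n
    induction n with
    | zero => rw [pow_zero]; exact Category.id_comp s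
    | succ n ih =>
      rw [pow_succ]
      change (σ.hom ≫ ((show Aut X from σ) ^ n).hom) ≫ s = s
      rw [Category.assoc, ih, hs]
  apply Iso.ext
  refine eq_id s _ (h2 ℓ) (map_gen _) ?_
  intro b
  have h3 := stalkAct_pow (ρ := MonoidHom.id (Aut X)) (genericPoint X) (fun g => map_gen g)
    (show Aut X from σ) ℓ b
  refine h3.trans ?_
  exact h1 b

/-- **`f` is the quotient by the group generated by `σ`.** -/
theorem isQuot {S : Scheme.{u}} (s : X ⟶ S) [IsSeparated s] (hs : σ.hom ≫ s = s) (hℓ : ℓ.Prime)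
    (hdeg : ∀ y : Y, f.finrank y = ℓ) (hσf : σ.hom ≫ f = f) (hσ : σ.hom ≠ 𝟙 X)
    (hY : ∀ y : Y, IsIntegrallyClosed (Y.presheaf.stalk y)) : SGA1.IsQuot (act σ) f := by
  have hpow := pow_eq_one f σ s hs hℓ hdeg hσf hσ
  have hfin := finite σ hℓ.pos hpow
  have hinv : ∀ g, (act σ g).hom ≫ f = f := by
    intro g
    obtain ⟨n, rfl⟩ := exists_pow σ hℓ.pos hpow g
    induction n with
    | zero => rw [pow_zero, hom_one, Category.id_comp]
    | succ n ih => rw [pow_succ, hom_mul, Category.assoc, ih, act_gen, hσf]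
  have hf := map_genericPoint f
  refine isQuot_of_affine_cover hinv fun y => ?_
  obtain ⟨V, hV, hyV⟩ := exists_affine_mem y
  refine ⟨V, hyV, hV, ?_, ?_⟩
  · have hdom : IsSchemeTheoreticallyDominant f := .of_isDominant f
    exact f.app_injective V
  · intro t ht
    have hVne : Nonempty V := ⟨⟨y, hyV⟩⟩
    have hηV : genericPoint Y ∈ V := ((genericPoint_spec Y).mem_open_set_iff V.isOpen).mpr ⟨y, trivial, hyV⟩
    have hηU : genericPoint X ∈ f ⁻¹ᵁ V := by
      change f (genericPoint X) ∈ V
      rw [hf]; exact hηV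
    have hUne : Nonempty (f ⁻¹ᵁ V : X.Opens) := ⟨⟨_, hηU⟩⟩
    -- the germ of `t` is fixed
    let b : X.functionField := X.presheaf.germ (f ⁻¹ᵁ V) (genericPoint X) hηU t
    have hb : stalkAct σ.hom (genericPoint X) (map_gen σ) b = b := by
      have h1 := stalkAct_germ σ.hom (genericPoint X) (map_gen σ) (f ⁻¹ᵁ V) hηU t
      refine h1.trans ?_
      have h2 := ht (gen σ)
      have h3 : X.presheaf.germ (f ⁻¹ᵁ V) (genericPoint X) hηU
          ((Groth.Agent.Sga1.QuotBasic.act (act σ) (stable_preimage hinv V) (gen σ)).hom t) = b := by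
        rw [h2]
      refine Eq.trans ?_ h3
      unfold Groth.Agent.Sga1.QuotBasic.act
      exact (TopCat.Presheaf.germ_res_apply X.presheaf _ (genericPoint X) hηU (σ.hom.app (f ⁻¹ᵁ V) t)).symm
    obtain ⟨a, ha⟩ := (generic f σ hf s hs hℓ hdeg hσf hσ).1 b hb
    -- integrality
    have i1 := functionField_isFractionRing_of_isAffineOpen Y V hV
    have hic : IsIntegrallyClosed Γ(Y, V) :=
      Groth.Agent.Ega3B.NormalBirational.isIntegrallyClosed_section hY V hV
    have hcomp : ∀ r : Γ(Y, V), (ffm f hf).hom (algebraMap Γ(Y, V) Y.functionField r) =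
        X.presheaf.germ (f ⁻¹ᵁ V) (genericPoint X) hηU ((f.app V).hom r) := by
      intro r
      have h2 : Y.presheaf.germ V (genericPoint Y) hηV ≫ ffm f hf =
          f.app V ≫ X.presheaf.germ (f ⁻¹ᵁ V) (genericPoint X) hηU := by
        unfold ffm
        rw [TopCat.Presheaf.germ_stalkSpecializes_assoc, Scheme.Hom.germ_stalkMap]
      exact congrArg (fun k => k.hom r) h2
    have hint : IsIntegral Γ(Y, V) a := by
      have h1 : (f.app V).hom.IsIntegralElem t := (f.isIntegral_app V hV) t
      obtain ⟨P, hP, hPt⟩ := h1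
      refine ⟨P, hP, ?_⟩
      have hinj : Function.Injective (ffm f hf).hom := (ffm f hf).hom.injective
      apply hinj
      rw [map_zero, Polynomial.hom_eval₂, ha]
      have h2 := congrArg (X.presheaf.germ (f ⁻¹ᵁ V) (genericPoint X) hηU).hom hPt
      rw [map_zero, Polynomial.hom_eval₂] at h2
      refine Eq.trans ?_ h2
      congr 1
      ext r
      exact hcomp r
    obtain ⟨r, hr⟩ := IsIntegrallyClosed.isIntegral_iff.mp hint
    refine ⟨r, ?_⟩
    have hinj : Function.Injective (X.presheaf.germ (f ⁻¹ᵁ V) (genericPoint X) hηU).hom :=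
      germ_injective_of_isIntegral X (genericPoint X) hηU
    apply hinj
    rw [← hcomp, hr, ha]

end Groth.Agent.Models.K399.QGen
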