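import Groth.Agent.Models.K399.QStalk
import Groth.Agent.Models.K399.KL
import Groth.Agent.WildQuot.K874.GalFlat
import Mathlib.AlgebraicGeometry.AffineScheme
import Mathlib.RingTheory.Ideal.Pointwise

/-!
# Regularity of quotients by a group of prime order

`p : X ⟶ Y` quotient by a finite group. At points with trivial stabilizer the regularity of `X` descends
(`regular_of_free`); at a fixed point of an automorphism of prime order with principal augmentation
ideal it descends by the theorem of Kiraly-Luetkebohmert (`regular_of_fixed`).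
-/

set_option autoImplicit false
universe u

open CategoryTheory CategoryTheory.Limits AlgebraicGeometry

namespace Groth.Agent.Models.K399.QReg

open Groth.Agent.Sga1.QuotBasic Groth.Agent.Models.K399.QStalk

variable {X Y : Scheme.{u}} {G : Type u} [Group G] {ρ : G →* Aut X} {p : X ⟶ Y}

/-- The ideal generated by the `σ b - b` in the stalk at a fixed point. -/
noncomputable def augIdeal (σ : X ⟶ X) (z : X) (hz : σ z = z) : Ideal (X.presheaf.stalk z) :=
  Ideal.span (Set.range fun b => stalkAct σ z hz b - b)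

theorem regular_of_free [Finite G] (hp : SGA1.IsQuot ρ p) (y : Y)
    (hfree : ∀ z : X, p z = y → ∀ g : G, (ρ g).hom z = z → g = 1)
    (hreg : ∀ z : X, p z = y → IsRegularLocalRing (X.presheaf.stalk z)) :
    IsRegularLocalRing (Y.presheaf.stalk y) := by
  have := hp.affine
  obtain ⟨V, hV, hy⟩ := exists_affine_mem y
  have h := quotOn_of_isQuot hp V
  let := sectionAlgebra p V
  let := mulSemiringAction ρ (stable_preimage hp.inv V)
  have := h.isInvariant
  have := smulCommClass_sections hp.inv V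
  have : Algebra.IsIntegral Γ(Y, V) Γ(X, p ⁻¹ᵁ V) := Algebra.IsInvariant.isIntegral _ _ G
  have hU := hV.preimage p
  let q := hV.primeIdealOf ⟨y, hy⟩
  -- points over `q`
  have hpt : ∀ (Q : Ideal Γ(X, p ⁻¹ᵁ V)) (hQ : Q.IsPrime), Q.comap (algebraMap Γ(Y, V) Γ(X, p ⁻¹ᵁ V)) = q.asIdeal →
      ∃ (z : X) (hz : z ∈ p ⁻¹ᵁ V), p z = y ∧ (hU.primeIdealOf ⟨z, hz⟩).asIdeal = Q := by
    intro Q hQ hQq
    have hz : hU.fromSpec ⟨Q, hQ⟩ ∈ p ⁻¹ᵁ V := hU.range_fromSpec.le ⟨⟨Q, hQ⟩, rfl⟩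
    have hQ' : hU.primeIdealOf ⟨hU.fromSpec ⟨Q, hQ⟩, hz⟩ = ⟨Q, hQ⟩ := by
      apply hU.fromSpec.isOpenEmbedding.injective
      exact hU.fromSpec_primeIdealOf _
    refine ⟨hU.fromSpec ⟨Q, hQ⟩, hz, ?_, by rw [hQ']⟩
    have h1 := IsAffineOpen.comap_primeIdealOf_appLE (f := p) (x := hU.fromSpec ⟨Q, hQ⟩) V hV (p ⁻¹ᵁ V) hU
      le_rfl hz
    rw [hQ', ← Scheme.Hom.app_eq_appLE] at h1
    have h2 : (PrimeSpectrum.comap (p.app V).hom ⟨Q, hQ⟩) = q := PrimeSpectrum.ext hQq
    exact (eq_of_primeIdealOf_eq hV hy _ (h2.symm.trans h1)).symm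
  have hR := K874.GalFlat.isRegularLocalRing (R := Γ(Y, V)) (A := Γ(X, p ⁻¹ᵁ V)) (G := G) h.injective
    (fun a ha => Algebra.IsInvariant.isInvariant a ha) q.asIdeal (fun Q hQ hQq => by
      obtain ⟨z, hz, hzy, rfl⟩ := hpt Q hQ hQq
      rw [eq_bot_iff]
      intro g hg
      rw [Subgroup.mem_bot]
      have hgz : (ρ g).hom z = z := by
        have hgm : (ρ g).hom z ∈ p ⁻¹ᵁ V := (stable_preimage hp.inv V).apply_mem g hz
        apply eq_of_primeIdealOf_eq hU hgm hz
        have e4 := IsAffineOpen.comap_primeIdealOf_appLE (f := (ρ g).hom) (x := z) (p ⁻¹ᵁ V) hU (p ⁻¹ᵁ V) hU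
          (stable_preimage hp.inv V g) hz
        rw [← e4]
        ext a
        change (act ρ (stable_preimage hp.inv V) g).hom a ∈ (hU.primeIdealOf ⟨z, hz⟩).asIdeal ↔ _
        have h1 : g⁻¹ • a - a ∈ (hU.primeIdealOf ⟨z, hz⟩).asIdeal :=
          (Ideal.inertia G _ |>.inv_mem hg) a
        have h2 : g⁻¹ • a = (act ρ (stable_preimage hp.inv V) g).hom a := by
          rw [Groth.Agent.Sga1.QuotBasic.smul_def, inv_inv]
        rw [h2] at h1
        constructor
        · intro h3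
          have h4 := Ideal.sub_mem _ h3 h1
          rwa [sub_sub_cancel] at h4
        · intro h3
          have h4 := Ideal.add_mem _ h1 h3
          rwa [sub_add_cancel] at h4
      exact hfree z hzy g hgz)
    (fun Q hQ hQq => by
      obtain ⟨z, hz, hzy, rfl⟩ := hpt Q hQ hQq
      have hr := hreg z hzy
      let := TopCat.Presheaf.algebra_section_stalk X.presheaf ⟨z, hz⟩
      have := hU.isLocalization_stalk ⟨z, hz⟩
      exact IsRegularLocalRing.of_ringEquiv (IsLocalization.algEquiv (hU.primeIdealOf ⟨z, hz⟩).asIdeal.primeCompl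
        (X.presheaf.stalk z) (Localization.AtPrime (hU.primeIdealOf ⟨z, hz⟩).asIdeal)).toRingEquiv)
  let := TopCat.Presheaf.algebra_section_stalk Y.presheaf ⟨y, hy⟩
  have := hV.isLocalization_stalk ⟨y, hy⟩
  exact IsRegularLocalRing.of_ringEquiv (IsLocalization.algEquiv q.asIdeal.primeCompl
    (Localization.AtPrime q.asIdeal) (Y.presheaf.stalk y)).toRingEquiv

theorem stalkAct_pow (z : X) (hz : ∀ g : G, (ρ g).hom z = z) (g : G) (n : ℕ) (b : X.presheaf.stalk z) :
    stalkAct (ρ (g ^ n)).hom z (hz _) b = (stalkAct (ρ g).hom z (hz g))^[n] b := by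
  induction n with
  | zero =>
    rw [stalkAct_congr (show (ρ (g ^ 0)).hom = 𝟙 X by rw [pow_zero, hom_one]) z (hz _), stalkAct_id]
    rfl
  | succ n ih =>
    have h1 : (ρ (g ^ (n + 1))).hom = (ρ g).hom ≫ (ρ (g ^ n)).hom := by
      rw [pow_succ, hom_mul]
    rw [stalkAct_congr h1 z (hz _), stalkAct_comp _ _ z (hz _) (hz _), ih, Function.iterate_succ_apply']

theorem regular_of_fixed [Finite G] (hp : SGA1.IsQuot ρ p) (z : X) (hz : ∀ g : G, (ρ g).hom z = z)
    (g₀ : G) (hgen : ∀ g : G, ∃ n : ℕ, g = g₀ ^ n) {ℓ : ℕ} (hℓ : ℓ.Prime) (h0 : g₀ ^ ℓ = 1)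
    (hreg : IsRegularLocalRing (X.presheaf.stalk z)) [IsDomain (X.presheaf.stalk z)]
    (hprin : (augIdeal (ρ g₀).hom z (hz g₀)).IsPrincipal) :
    IsRegularLocalRing (Y.presheaf.stalk (p z)) := by
  let τ := stalkAct (ρ g₀).hom z (hz g₀)
  have hτ : ∀ b, τ^[ℓ] b = b := by
    intro b
    have h1 := stalkAct_pow z hz g₀ ℓ b
    rw [stalkAct_congr (show (ρ (g₀ ^ ℓ)).hom = 𝟙 X by rw [h0, hom_one]) z (hz _), stalkAct_id] at h1
    exact h1.symm
  have hinj := stalkMap_injective hp z hz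
  have hall : ∀ b, τ b = b → ∀ g : G, stalkAct (ρ g).hom z (hz g) b = b := by
    intro b hb g
    obtain ⟨n, rfl⟩ := hgen g
    rw [stalkAct_pow z hz]
    exact Function.iterate_fixed hb n
  have hfix : ∀ a, τ ((p.stalkMap z).hom a) = (p.stalkMap z).hom a := by
    intro a
    obtain ⟨V, hV, t, rfl⟩ := TopCat.Presheaf.exists_germ_eq Y.presheaf a
    have h1 : (p.stalkMap z).hom (Y.presheaf.germ V (p z) hV t) = X.presheaf.germ (p ⁻¹ᵁ V) z hV (p.app V t) :=
      Scheme.Hom.germ_stalkMap_apply p V z hV t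
    rw [h1]
    have h2 := stalkAct_germ (ρ g₀).hom z (hz g₀) (p ⁻¹ᵁ V) hV (p.app V t)
    refine h2.trans ?_
    have h3 : ∀ (q : X ⟶ Y) (hq : q = p) (hV' : q z ∈ V), X.presheaf.germ (q ⁻¹ᵁ V) z hV' (q.app V t) =
        X.presheaf.germ (p ⁻¹ᵁ V) z hV (p.app V t) := by
      rintro _ rfl hV'
      rfl
    exact h3 ((ρ g₀).hom ≫ p) (hp.inv g₀) _
  have hrange : ∀ b, τ b = b ↔ b ∈ Set.range (p.stalkMap z).hom := by
    intro b
    refine ⟨fun hb => mem_range_stalkMap hp z hz b (hall b hb), ?_⟩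
    rintro ⟨a, rfl⟩
    exact hfix a
  by_cases hne : ∃ b, τ b ≠ b
  · let := (p.stalkMap z).hom.toAlgebra
    exact KL.isRegularLocalRing (A := Y.presheaf.stalk (p z)) (B := X.presheaf.stalk z) τ hℓ hτ hne hprin hinj hrange
  · push Not at hne
    have hsurj : Function.Surjective (p.stalkMap z).hom := fun b => (hrange b).mp (hne b)
    exact IsRegularLocalRing.of_ringEquiv (RingEquiv.ofBijective (p.stalkMap z).hom ⟨hinj, hsurj⟩).symm

end Groth.Agent.Models.K399.QReg
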