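import Groth.Agent.Sga1.QuotBasic
import Groth.Agent.Sga1.FreeQuotSch
import Mathlib.AlgebraicGeometry.Stalk

/-!
# Stalks of a quotient at a fixed point

For a quotient `p : X ⟶ Y` by a finite group and a point `z` fixed by the group, the stalk of `Y` at
`p z` is the ring of invariants of the stalk of `X` at `z`.
-/

set_option autoImplicit false
universe u

open CategoryTheory CategoryTheory.Limits AlgebraicGeometry

namespace Groth.Agent.Models.K399.QStalk

open Groth.Agent.Sga1.QuotBasic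

variable {X Y : Scheme.{u}}

/-- The endomorphism of the stalk at a fixed point of an endomorphism of a scheme. -/
noncomputable def stalkAct (σ : X ⟶ X) (z : X) (hz : σ z = z) :
    X.presheaf.stalk z →+* X.presheaf.stalk z :=
  (X.presheaf.stalkSpecializes (specializes_of_eq hz) ≫ σ.stalkMap z).hom

theorem stalkAct_germ (σ : X ⟶ X) (z : X) (hz : σ z = z) (U : X.Opens) (hU : z ∈ U) (s : Γ(X, U)) :
    stalkAct σ z hz (X.presheaf.germ U z hU s) =
      X.presheaf.germ (σ ⁻¹ᵁ U) z (show σ z ∈ U by rw [hz]; exact hU) (σ.app U s) := by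
  unfold stalkAct
  have h1 := congrArg (fun k => k.hom s)
    (TopCat.Presheaf.germ_stalkSpecializes X.presheaf (U := U) (y := z) hU (specializes_of_eq hz))
  have h2 := Scheme.Hom.germ_stalkMap_apply σ U z (show σ z ∈ U by rw [hz]; exact hU) s
  refine Eq.trans ?_ h2
  exact congrArg (fun k => (σ.stalkMap z).hom k) h1

theorem stalkAct_id (z : X) (hz : (𝟙 X : X ⟶ X) z = z) : stalkAct (𝟙 X) z hz = RingHom.id _ := by
  ext b
  obtain ⟨U, hU, s, rfl⟩ := TopCat.Presheaf.exists_germ_eq X.presheaf b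
  rw [stalkAct_germ]
  rfl

theorem stalkAct_congr {σ τ : X ⟶ X} (h : σ = τ) (z : X) (hz : σ z = z) :
    stalkAct σ z hz = stalkAct τ z (by rw [← h]; exact hz) := by
  subst h; rfl

theorem stalkAct_comp (σ τ : X ⟶ X) (z : X) (hz : σ z = z) (hz' : τ z = z)
    (h : (σ ≫ τ) z = z) (b : X.presheaf.stalk z) :
    stalkAct (σ ≫ τ) z h b = stalkAct σ z hz (stalkAct τ z hz' b) := by
  obtain ⟨U, hU, s, rfl⟩ := TopCat.Presheaf.exists_germ_eq X.presheaf b
  have h1 := stalkAct_germ (σ ≫ τ) z h U hU s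
  have h2 := stalkAct_germ τ z hz' U hU s
  have h3 := stalkAct_germ σ z hz (τ ⁻¹ᵁ U) (show τ z ∈ U by rw [hz']; exact hU) (τ.app U s)
  rw [h1, h2, h3]
  rfl

variable {G : Type u} [Group G] {ρ : G →* Aut X} {p : X ⟶ Y}

/-- Open neighbourhoods of a fixed point are bounded below by preimages. -/
theorem exists_preimage_le [Finite G] (hp : SGA1.IsQuot ρ p) (z : X) (hz : ∀ g : G, (ρ g).hom z = z)
    (W : X.Opens) (hW : z ∈ W) : ∃ V : Y.Opens, p z ∈ V ∧ p ⁻¹ᵁ V ≤ W := by
  have hint : IsIntegralHom p := isIntegralHom_of_isQuot hp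
  have hcl : IsClosedMap p := p.isClosedMap
  refine ⟨⟨(p '' (W : Set X)ᶜ)ᶜ, (hcl _ W.isOpen.isClosed_compl).isOpen_compl⟩, ?_, ?_⟩
  · rintro ⟨x, hx, hxz⟩
    obtain ⟨g, hg⟩ := (apply_eq_iff_of_isQuot hp x z).mp hxz
    apply hx
    have h1 : x = z := by
      have h2 := congrArg (fun w => (ρ g⁻¹).hom w) hg
      have h3 : (ρ g⁻¹).hom ((ρ g).hom x) = (ρ g⁻¹).hom z := h2
      rw [inv_apply_apply, hz] at h3
      exact h3
    rw [h1]
    exact hW
  · intro x hx
    by_contra hxW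
    exact hx ⟨x, hxW, rfl⟩

theorem stalkMap_injective [Finite G] (hp : SGA1.IsQuot ρ p) (z : X) (hz : ∀ g : G, (ρ g).hom z = z) :
    Function.Injective (p.stalkMap z).hom := by
  rw [injective_iff_map_eq_zero]
  intro a ha
  obtain ⟨V, hV, t, rfl⟩ := TopCat.Presheaf.exists_germ_eq Y.presheaf a
  have h1 : X.presheaf.germ (p ⁻¹ᵁ V) z hV (p.app V t) = 0 := by
    rw [← ha]
    exact (Scheme.Hom.germ_stalkMap_apply p V z hV t).symm
  obtain ⟨W, hzW, i, j, hij⟩ := TopCat.Presheaf.germ_eq X.presheaf (U := p ⁻¹ᵁ V) (V := p ⁻¹ᵁ V) z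
    (show p z ∈ V from hV) (show p z ∈ V from hV) (p.app V t) 0 (by
    rw [map_zero]; exact h1)
  obtain ⟨V', hV', hle⟩ := exists_preimage_le hp z hz W hzW
  have hle' : p ⁻¹ᵁ (V' ⊓ V) ≤ W := fun x hx => hle hx.1
  have h2 : (p.app (V' ⊓ V)).hom ((Y.presheaf.map (homOfLE (inf_le_right : V' ⊓ V ≤ V)).op).hom t) = 0 := by
    have h3 := congrArg (fun k => k.hom t) (Scheme.Hom.naturality p (homOfLE (inf_le_right : V' ⊓ V ≤ V)).op)
    refine h3.trans ?_
    have h4 := congrArg (fun s => (X.presheaf.map (homOfLE hle').op).hom s) hij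
    rw [map_zero] at h4
    change (X.presheaf.map (homOfLE hle').op).hom ((X.presheaf.map i.op).hom (p.app V t)) = _ at h4
    rw [← CommRingCat.comp_apply, ← Functor.map_comp, map_zero] at h4
    exact h4
  have h5 := hp.injective (V' ⊓ V) (h2.trans (map_zero _).symm)
  have h6 := congrArg (fun s => Y.presheaf.germ (V' ⊓ V) (p z) ⟨hV', hV⟩ s) h5
  rw [map_zero] at h6
  refine Eq.trans ?_ h6
  exact (TopCat.Presheaf.germ_res_apply Y.presheaf (homOfLE (inf_le_right : V' ⊓ V ≤ V)) (p z) ⟨hV', hV⟩ t).symm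

theorem mem_range_stalkMap [Finite G] (hp : SGA1.IsQuot ρ p) (z : X) (hz : ∀ g : G, (ρ g).hom z = z)
    (b : X.presheaf.stalk z) (hb : ∀ g : G, stalkAct (ρ g).hom z (hz g) b = b) :
    b ∈ Set.range (p.stalkMap z).hom := by
  obtain ⟨U, hU, s, rfl⟩ := TopCat.Presheaf.exists_germ_eq X.presheaf b
  -- the germs of `s` and of `g^* s` agree
  have key : ∀ g : G, ∃ (W : X.Opens) (_ : z ∈ W) (i : W ≤ U) (j : W ≤ (ρ g).hom ⁻¹ᵁ U),
      (X.presheaf.map (homOfLE i).op).hom s =
        (X.presheaf.map (homOfLE j).op).hom ((ρ g).hom.app U s) := by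
    intro g
    have h1 := hb g
    rw [stalkAct_germ] at h1
    obtain ⟨W, hzW, i, j, hij⟩ := TopCat.Presheaf.germ_eq X.presheaf z _ _ _ _ h1
    exact ⟨W, hzW, j.le, i.le, hij.symm⟩
  choose W hzW i j hW using key
  let W₀ : X.Opens := ⟨⋂ g : G, (W g : Set X), isOpen_iInter_of_finite fun g => (W g).isOpen⟩
  have hW₀ : ∀ g, W₀ ≤ W g := fun g x hx => Set.mem_iInter.mp hx g
  obtain ⟨V, hV, hle⟩ := exists_preimage_le hp z hz W₀ (Set.mem_iInter.mpr hzW)
  have hVU : p ⁻¹ᵁ V ≤ U := fun x hx => i 1 (hW₀ 1 (hle hx))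
  have hinv : ∀ g, (act ρ (stable_preimage hp.inv V) g).hom ((X.presheaf.map (homOfLE hVU).op).hom s) =
      (X.presheaf.map (homOfLE hVU).op).hom s := by
    intro g
    have h1 := congrArg (fun t => (X.presheaf.map (homOfLE (hle.trans (hW₀ g))).op).hom t) (hW g)
    change (X.presheaf.map _).hom ((X.presheaf.map _).hom s) =
      (X.presheaf.map _).hom ((X.presheaf.map _).hom ((ρ g).hom.app U s)) at h1
    rw [← CommRingCat.comp_apply, ← CommRingCat.comp_apply, ← Functor.map_comp, ← Functor.map_comp] at h1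
    unfold act
    rw [← CommRingCat.comp_apply, Scheme.Hom.map_appLE]
    exact h1.symm
  obtain ⟨t, ht⟩ := (quotOn_of_isQuot hp V).surj _ hinv
  refine ⟨Y.presheaf.germ V (p z) hV t, ?_⟩
  refine (Scheme.Hom.germ_stalkMap_apply p V z hV t).trans ?_
  have h2 : X.presheaf.germ (p ⁻¹ᵁ V) z hV (p.app V t) =
      X.presheaf.germ (p ⁻¹ᵁ V) z hV ((X.presheaf.map (homOfLE hVU).op).hom s) := by
    rw [← ht]
  refine h2.trans ?_
  exact TopCat.Presheaf.germ_res_apply X.presheaf (homOfLE hVU) z hV s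

end Groth.Agent.Models.K399.QStalk
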