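import Mathlib.RingTheory.RegularLocalRing.Defs
import Mathlib.RingTheory.KrullDimension.Basic
import Mathlib.RingTheory.Length
import Mathlib.FieldTheory.Perfect
import Mathlib.RingTheory.LocalRing.ResidueField.Basic
import Mathlib.RingTheory.LocalRing.RingHom.Basic
import Mathlib.RingTheory.Ideal.Maps

/-!
# Regular local rings of dimension two with an automorphism, and their first neighbourhoods

`Nbr f` : `A'` is a local ring of the blow-up of the maximal ideal of `A`.
`Pt ℓ σ` : `A` is regular of dimension two with perfect residue field and `σ ≠ id`, `σ ^ ℓ = id`.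
-/

set_option autoImplicit false
universe u

open IsLocalRing

namespace Groth.Agent.Models.K399.TBase

/-- `A'` is a local ring of the blow-up of the maximal ideal of `A`, over the closed point. -/
structure Nbr {A A' : Type u} [CommRing A] [IsLocalRing A] [CommRing A'] [IsLocalRing A']
    (f : A →+* A') : Prop where
  inj : Function.Injective f
  loc : IsLocalHom f
  frac : ∀ c : A', ∃ n : ℕ, ∃ s₁ ∈ maximalIdeal A ^ n, ∃ s₂ ∈ maximalIdeal A ^ n, f s₂ * c = f s₁ ∧
    (maximalIdeal A ^ n).map f = Ideal.span {f s₂}

/-- A regular local ring of dimension two with perfect residue field and an automorphism `σ ≠ id`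
with `σ ^ ℓ = id`. -/
structure Pt (ℓ : ℕ) {A : Type u} [CommRing A] [IsLocalRing A] (σ : A →+* A) : Prop where
  reg : IsRegularLocalRing A
  dim : ringKrullDim A = 2
  perf : PerfectField (ResidueField A)
  ne : ∃ a, σ a ≠ a
  pow : ∀ a, σ^[ℓ] a = a

/-- The augmentation ideal. -/
def aug {A : Type u} [CommRing A] (σ : A →+* A) : Ideal A := Ideal.span (Set.range fun a => σ a - a)

end Groth.Agent.Models.K399.TBase
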