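import Groth.Agent.Models.K399.QFinal
import Groth.Agent.Models.K399.TBase
import Groth.Agent.Models.H69.Contr
import Groth.Agent.Ega4B.BlowStalk
import Groth.Agent.Ega4B.ElimPt
import Groth.Agent.Dix.HasBlow

/-!
# Blowing up a fixed closed point of a model
-/

set_option autoImplicit false
universe u

open CategoryTheory CategoryTheory.Limits AlgebraicGeometry IsLocalRing TopologicalSpace

namespace Groth.Agent.Models.K399.TBlow

open Groth.Agent.Models.K399.QStalk Groth.Agent.Models.K399.QReg Groth.Agent.Models.K399.QFinal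
  Groth.Agent.Dix.PointIdeal Groth.Agent.Divis.CartierBasic Groth.Agent.Dix.HasBlow Groth.Agent.Dix.ExcPts

/-- the vanishing ideal of a closed set pulls back along isomorphisms -/
theorem comap_vanishingIdeal {X Y : Scheme.{u}} (f : X ≅ Y) (Z : Closeds Y) :
    (Scheme.IdealSheafData.vanishingIdeal Z).comap f.hom =
      Scheme.IdealSheafData.vanishingIdeal (Z.preimage f.hom.continuous) := by
  have key : ∀ J : X.IdealSheafData, J ≤ (Scheme.IdealSheafData.vanishingIdeal Z).comap f.hom ↔
      J ≤ Scheme.IdealSheafData.vanishingIdeal (Z.preimage f.hom.continuous) := by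
    intro J
    rw [← Scheme.IdealSheafData.le_support_iff_le_vanishingIdeal]
    have h1 : J ≤ (Scheme.IdealSheafData.vanishingIdeal Z).comap f.hom ↔
        J.comap f.inv ≤ Scheme.IdealSheafData.vanishingIdeal Z := by
      constructor
      · intro h
        have := Scheme.IdealSheafData.comap_mono (f := f.inv) h
        dsimp only at this
        rwa [← Scheme.IdealSheafData.comap_comp, f.inv_hom_id, Scheme.IdealSheafData.comap_id] at this
      · intro h
        have := Scheme.IdealSheafData.comap_mono (f := f.hom) h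
        dsimp only at this
        rwa [← Scheme.IdealSheafData.comap_comp, f.hom_inv_id, Scheme.IdealSheafData.comap_id] at this
    rw [h1, ← Scheme.IdealSheafData.le_support_iff_le_vanishingIdeal, Scheme.IdealSheafData.support_comap]
    constructor
    · intro h x hx
      have h2 := h hx
      change f.inv (f.hom x) ∈ (J.support : Set X) at h2
      rwa [← Scheme.Hom.comp_apply, f.hom_inv_id] at h2
    · intro h x hx
      apply h
      change f.hom (f.inv x) ∈ Z
      rwa [← Scheme.Hom.comp_apply, f.inv_hom_id]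
  exact le_antisymm ((key _).mp le_rfl) ((key _).mpr le_rfl)

theorem comap_pt {X : Scheme.{u}} (f : X ≅ X) {x : X} (hx : IsClosed ({x} : Set X)) (h : f.hom x = x) :
    (pt x hx).comap f.hom = pt x hx := by
  unfold pt
  rw [comap_vanishingIdeal]
  congr 1
  ext z
  change f.hom z = x ↔ z = x
  constructor
  · intro hz
    rw [← h] at hz
    have h2 := congrArg f.inv hz
    rwa [← Scheme.Hom.comp_apply, ← Scheme.Hom.comp_apply, f.hom_inv_id] at h2
  · rintro rfl
    exact h

theorem inv_apply_eq {X : Scheme.{u}} (f : X ≅ X) {x : X} (h : f.hom x = x) : f.inv x = x := by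
  have h2 := congrArg f.inv h
  rw [← Scheme.Hom.comp_apply, f.hom_inv_id] at h2
  exact h2.symm

/-- An automorphism fixing the centre lifts to the blow-up. -/
theorem exists_lift {X W : Scheme.{u}} (f : X ≅ X) {x : X} (hx : IsClosed ({x} : Set X)) (h : f.hom x = x)
    {b : W ⟶ X} (hb : BlowUp.IsBlowUp b (pt x hx)) : ∃ e : W ≅ W, e.hom ≫ b = b ≫ f.hom := by
  have h1 : IsPullback (𝟙 W) (b ≫ f.hom) b f.inv := by
    refine IsPullback.of_horiz_isIso ⟨?_⟩
    rw [Category.id_comp, Category.assoc, f.hom_inv_id, Category.comp_id]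
  have h2 := Divis.BlowUpFormal.isBlowUp_of_isPullback hb h1
  have h3 := comap_pt f.symm hx (inv_apply_eq f h)
  rw [Iso.symm_hom] at h3
  rw [h3] at h2
  obtain ⟨e, he, -⟩ := Flat2C.BlowProper.exists_iso h2 hb
  exact ⟨e, he⟩

theorem isIso_snd_of_range {X' X C : Scheme.{u}} (b : X' ⟶ X) (U : X.Opens) [IsIso (b ∣_ U)] (i : C ⟶ X)
    (hi : Set.range i ⊆ U) : IsIso (pullback.snd b i) := by
  let l : C ⟶ U := IsOpenImmersion.lift U.ι i (by simpa using hi)
  have hl : l ≫ U.ι = i := IsOpenImmersion.lift_fac _ _ _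
  have h1 : IsPullback (b ⁻¹ᵁ U).ι (b ∣_ U) b U.ι := (isPullback_morphismRestrict b U).flip
  have hw : pullback.fst b i ≫ b = (pullback.snd b i ≫ l) ≫ U.ι := by
    rw [Category.assoc, hl, pullback.condition]
  have h2 : IsPullback (h1.lift (pullback.fst b i) (pullback.snd b i ≫ l) hw) (pullback.snd b i) (b ∣_ U) l := by
    refine IsPullback.of_right ?_ (h1.lift_snd _ _ _) h1
    rw [h1.lift_fst, hl]
    exact IsPullback.of_hasPullback b i
  exact MorphismProperty.of_isPullback (P := MorphismProperty.isomorphisms Scheme) h2 inferInstance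

/-- The generic fibre does not change. -/
theorem exists_generic {X' X C T S : Scheme.{u}} {b : X' ⟶ X} {p : X ⟶ S} {x : X} (hx : IsClosed ({x} : Set X))
    (hb : BlowUp.IsBlowUp b (pt x hx)) {i : C ⟶ X} {g : C ⟶ T} {c : T ⟶ S} (h : IsPullback i g p c)
    (hxi : x ∉ Set.range i) : ∃ i' : C ⟶ X', IsPullback i' g (b ≫ p) c ∧ i' ≫ b = i := by
  have hU := H69.Contr.isIso_compl x hx hb
  have hiso : IsIso (pullback.snd b i) := by
    refine isIso_snd_of_range b (H69.Contr.compl x hx) i ?_
    rintro _ ⟨z, rfl⟩ hz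
    exact hxi ⟨z, hz⟩
  have h1 : IsPullback (pullback.fst b i) (pullback.snd b i ≫ g) (b ≫ p) c :=
    ((IsPullback.of_hasPullback b i).flip.paste_horiz h.flip).flip
  refine ⟨inv (pullback.snd b i) ≫ pullback.fst b i, ?_, ?_⟩
  · refine IsPullback.of_iso h1 (asIso (pullback.snd b i)) (Iso.refl _) (Iso.refl _) (Iso.refl _) ?_ ?_ ?_ ?_
    · simp
    · simp
    · simp
    · simp
  · rw [Category.assoc, pullback.condition, IsIso.inv_hom_id_assoc]

variable {R : Type u} [CommRing R] [IsDomain R] [IsDiscreteValuationRing R]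
  {X : Scheme.{u}} {fX : X ⟶ Spec (CommRingCat.of (FractionRing R))} {σ : X ≅ X}
  {XR : Scheme.{u}} {p : XR ⟶ Spec (CommRingCat.of R)} {j : X ⟶ XR} {τ : XR ≅ XR}

/-- Models are regular surfaces. -/
theorem isSurf (hM : Model X fX σ XR p j τ) (hdX : ∀ c : X, ringKrullDim (X.presheaf.stalk c) ≤ 1) :
    IsSurf XR := by
  obtain ⟨h1, h2, h3, hreg, hpb, hover, hcomm⟩ := hM
  have hln : IsLocallyNoetherian XR := LocallyOfFiniteType.isLocallyNoetherian p
  have hcs : CompactSpace XR := (quasiCompact_iff_compactSpace p).mp inferInstance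
  refine ⟨h3, {}, hreg, fun x => ?_⟩
  have h4 := K382.AdmBase.ringKrullDim_stalk_le_two hpb (fun x => by
      have := hreg x
      exact Groth.Agent.CurvesC.RegNormal.isDomain _) hdX x
  rw [ringKrullDim_stalk_eq_coheight] at h4
  exact (WithBot.coe_le_coe (a := Order.coheight x) (b := 2)).mp h4

theorem notMem_range (hM : Model X fX σ XR p j τ) (hdX : ∀ c : X, ringKrullDim (X.presheaf.stalk c) ≤ 1)
    {z : XR} (hdim : ringKrullDim (XR.presheaf.stalk z) = 2) : z ∉ Set.range j := by
  rintro ⟨c, rfl⟩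
  have := K382.AdmBase.isOpenImmersion hM.pullback
  have h1 := ringKrullDim_eq_of_ringEquiv (asIso (j.stalkMap c)).commRingCatIsoToRingEquiv
  have h2 := hdX c
  rw [← h1, hdim] at h2
  exact absurd h2 (by decide)

/-- **Blowing up a fixed point of a model.** -/
theorem exists_blow (hM : Model X fX σ XR p j τ) (hdX : ∀ c : X, ringKrullDim (X.presheaf.stalk c) ≤ 1)
    {z : XR} (hzc : IsClosed ({z} : Set XR)) (hdim : ringKrullDim (XR.presheaf.stalk z) = 2)
    (hz : τ.hom z = z) :
    ∃ (XR' : Scheme.{u}) (b : XR' ⟶ XR) (j' : X ⟶ XR') (τ' : XR' ≅ XR'), BlowUp.IsBlowUp b (pt z hzc) ∧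
      Model X fX σ XR' (b ≫ p) j' τ' ∧ j' ≫ b = j ∧ τ'.hom ≫ b = b ≫ τ.hom := by
  have hS := isSurf hM hdX
  have hzj := notMem_range hM hdX hdim
  obtain ⟨h1, h2, h3, hreg, hpb, hover, hcomm⟩ := hM
  obtain ⟨W, b, hb⟩ := Groth.Agent.Flat2C.BlowExist.exists_isBlowUp (pt z hzc)
  obtain ⟨hWi, hW, hbir, hiso, -⟩ := isSurf_blowUp hS z hzc hdim b hb
  have hp := hbir.proper
  obtain ⟨j', hj', hjb⟩ := exists_generic hzc hb hpb hzj
  obtain ⟨τ', hτ'⟩ := exists_lift τ hzc hz hb
  have hflat := flat_blowUp p z hzc (genericPoint_ne z hdim) b hbir.gen hb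
  refine ⟨W, b, j', τ', hb, ⟨inferInstance, hflat, hWi, hW.regular, hj', ?_, ?_⟩, hjb, hτ'⟩
  · rw [← Category.assoc, hτ', Category.assoc, hover]
  · have hoi : IsOpenImmersion j' := K382.AdmBase.isOpenImmersion hj'
    have hg : (j' ≫ τ'.hom) ≫ b = j ≫ τ.hom := by
      rw [Category.assoc, hτ', ← Category.assoc, hjb]
    have hg' : (σ.hom ≫ j') ≫ b = j ≫ τ.hom := by
      rw [Category.assoc, hjb, hcomm]
    have heff : BlowUp.IsEffCartierIdeal ((pt z hzc).comap (j ≫ τ.hom)) := by
      rw [← hg, Scheme.IdealSheafData.comap_comp]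
      exact Divis.EffCartier.isEff_comap_flat hb.1 _
    exact (hb.2 _ _ heff).unique hg hg'

end Groth.Agent.Models.K399.TBlow
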