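import Groth.Agent.Models.K399.TPt

/-!
# Good models from the local theorem
-/

set_option autoImplicit false
universe u

open CategoryTheory CategoryTheory.Limits AlgebraicGeometry IsLocalRing TopologicalSpace

namespace Groth.Agent.Models.K399.TMain

open Groth.Agent.Models.K399.QStalk Groth.Agent.Models.K399.QReg Groth.Agent.Models.K399.QFinal
  Groth.Agent.Models.K399.TBase Groth.Agent.Models.K399.TOver Groth.Agent.Models.K399.TBlow
  Groth.Agent.Models.K399.TPt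
  Groth.Agent.Dix.PointIdeal Groth.Agent.Divis.CartierBasic Groth.Agent.Dix.HasBlow Groth.Agent.Dix.ExcPts

/-- The local theorem. -/
def LocInd (ℓ : ℕ) : Prop :=
  ∀ (P : ∀ (A : Type u) [CommRing A] [IsLocalRing A], (A →+* A) → Prop)
    (_ : ∀ (A : Type u) [CommRing A] [IsLocalRing A] (σ : A →+* A), Pt ℓ σ → (aug σ).IsPrincipal → P A σ)
    (_ : ∀ (A : Type u) [CommRing A] [IsLocalRing A] (σ : A →+* A), Pt ℓ σ →
      (∀ (A' : Type u) [CommRing A'] [IsLocalRing A'] (σ' : A' →+* A') (f : A →+* A'), Pt ℓ σ' → Nbr f →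
        ((maximalIdeal A).map f).IsPrincipal → (∀ a, f (σ a) = σ' (f a)) → P A' σ') → P A σ)
    (A : Type u) [CommRing A] [IsLocalRing A] (σ : A →+* A), Pt ℓ σ → P A σ

section

variable {R : Type u} [CommRing R] [IsDomain R] [IsDiscreteValuationRing R] [PerfectField (ResidueField R)]
  {X : Scheme.{u}} {fX : X ⟶ Spec (CommRingCat.of (FractionRing R))} {σ : X ≅ X}
  (hdX : ∀ c : X, ringKrullDim (X.presheaf.stalk c) ≤ 1) {ℓ : ℕ} (hpow : (show Aut X from σ) ^ ℓ = 1)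
  (hfin : ∀ (XR : Scheme.{u}) (p : XR ⟶ Spec (CommRingCat.of R)) (j : X ⟶ XR) (τ : XR ≅ XR),
    Model X fX σ XR p j τ → {z : XR | ∃ hz : τ.hom z = z, ¬ (augIdeal τ.hom z hz).IsPrincipal}.Finite)

include hdX hpow hfin

/-- The geometric step. -/
theorem solv_step (A : Type u) [CommRing A] [IsLocalRing A] (φ : A →+* A) (hA : Pt ℓ φ)
    (h : ∀ (A' : Type u) [CommRing A'] [IsLocalRing A'] (φ' : A' →+* A') (f : A →+* A'), Pt ℓ φ' → Nbr f →
      ((maximalIdeal A).map f).IsPrincipal → (∀ a, f (φ a) = φ' (f a)) → Solv X fX σ A' φ') :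
    Solv X fX σ A φ := by
  intro XR p j τ hM z hz e he
  have hdim : ringKrullDim (XR.presheaf.stalk z) = 2 := by
    rw [ringKrullDim_eq_of_ringEquiv e, hA.dim]
  have hzc := isClosed_of_dim hM hdX hdim
  have hS := isSurf hM hdX
  have := hS.isIntegral
  obtain ⟨X₁, b, j₁, τ₁, hb, hM₁, hjb, hτb⟩ := exists_blow hM hdX hzc hdim hz
  have hO : Over τ τ₁ b {z} := by
    refine ⟨hτb, fun x' hx' => H69.Contr.isIso_stalkMap hb x' hx',
      fun x₁ x₂ hx hxx => H69.Contr.eq_of_apply_eq hb x₁ x₂ hx hxx⟩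
  have hpow₁ := model_pow hM₁ hpow
  let S : Set X₁ := {q | b q = z ∧ ∃ hq : τ₁.hom q = q, ¬ (augIdeal τ₁.hom q hq).IsPrincipal}
  have hSfin : S.Finite := (hfin X₁ (b ≫ p) j₁ τ₁ hM₁).subset fun q hq => hq.2
  obtain ⟨X₂, p₂, j₂, τ₂, g₂, hM₂, hO₂, hb₂⟩ := exists_finite S.ncard X₁ (b ≫ p) j₁ τ₁ hM₁ S hSfin le_rfl (by
    rintro q ⟨hq, hfix, hbad⟩
    refine ⟨hfix, ?_⟩
    obtain ⟨⟨h1, h2, h3⟩, h4⟩ := nbr hS hzc hdim hb q hq
    have hloc : IsLocalHom (e.symm : A →+* XR.presheaf.stalk z) := inferInstance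
    have hmap : ∀ n : ℕ, ((maximalIdeal A) ^ n).map (e.symm : A →+* XR.presheaf.stalk z) =
        (maximalIdeal (XR.presheaf.stalk z)) ^ n := by
      intro n
      rw [Ideal.map_pow]
      congr 1
      exact IsLocalRing.map_maximalIdeal_of_surjective _ e.symm.surjective
    refine h _ _ ((stk b q z hq).comp (e.symm : A →+* XR.presheaf.stalk z)) (pt_of_bad hM₁ hdX hpow₁ hfix hbad)
      ⟨h1.comp e.symm.injective, ?_, fun c => ?_⟩ ?_ fun a => ?_
    · have := h2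
      exact RingHom.isLocalHom_comp _ _
    · obtain ⟨n, s₁, hs₁, s₂, hs₂, h5, h6⟩ := h3 c
      refine ⟨n, e s₁, ?_, e s₂, ?_, ?_, ?_⟩
      · rw [← hmap n] at hs₁
        have := Ideal.mem_map_of_mem (e : XR.presheaf.stalk z →+* A) hs₁
        rw [Ideal.map_map] at this
        simpa using this
      · rw [← hmap n] at hs₂
        have := Ideal.mem_map_of_mem (e : XR.presheaf.stalk z →+* A) hs₂
        rw [Ideal.map_map] at this
        simpa using this
      · simpa using h5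
      · rw [← Ideal.map_map, hmap, h6]
        simp
    · rw [← Ideal.map_map]
      have h7 := hmap 1
      rw [pow_one, pow_one] at h7
      rw [h7]
      exact h4
    · change stk b q z hq (e.symm (φ a)) = stalkAct τ₁.hom q hfix (stk b q z hq (e.symm a))
      rw [← stk_comm hτb q z hq hfix hz]
      congr 1
      rw [e.symm_apply_eq, he, e.apply_symm_apply])
  refine ⟨X₂, p₂, j₂, τ₂, g₂ ≫ b, hM₂, hO.comp hO₂ le_rfl (fun x hx => hx.1), ?_⟩
  intro z' hz' h1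
  by_cases h2 : g₂ z' ∈ S
  · exact hb₂ z' hz' h2
  · have h3 := hO₂.fix hz'
    refine hO₂.principal h2 hz' h3 ?_
    by_contra h4
    exact h2 ⟨h1, h3, h4⟩

/-- **Good models exist.** -/
theorem exists_good (hloc : LocInd.{u} ℓ) (XR : Scheme.{u}) (p : XR ⟶ Spec (CommRingCat.of R)) (j : X ⟶ XR)
    (τ : XR ≅ XR) (hM : Model X fX σ XR p j τ) :
    ∃ (XR' : Scheme.{u}) (p' : XR' ⟶ Spec (CommRingCat.of R)) (j' : X ⟶ XR') (τ' : XR' ≅ XR'),
      Model X fX σ XR' p' j' τ' ∧ Good τ' := by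
  have hsol : ∀ (A : Type u) [CommRing A] [IsLocalRing A] (φ : A →+* A), Pt ℓ φ → Solv X fX σ A φ := by
    intro A _ _ φ hA
    exact hloc (fun A _ _ φ => Solv X fX σ A φ) (fun A _ _ φ _ h => Solv.good h)
      (fun A _ _ φ hA h => solv_step hdX hpow hfin A φ hA h) A φ hA
  have hpowR := model_pow hM hpow
  let S : Set XR := {z : XR | ∃ hz : τ.hom z = z, ¬ (augIdeal τ.hom z hz).IsPrincipal}
  obtain ⟨X₂, p₂, j₂, τ₂, g₂, hM₂, hO₂, hb₂⟩ := exists_finite S.ncard XR p j τ hM S (hfin XR p j τ hM) le_rfl (by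
    rintro q ⟨hfix, hbad⟩
    exact ⟨hfix, hsol _ _ (pt_of_bad hM hdX hpowR hfix hbad)⟩)
  refine ⟨X₂, p₂, j₂, τ₂, hM₂, fun z' hz' => ?_⟩
  by_cases h2 : g₂ z' ∈ S
  · exact hb₂ z' hz' h2
  · have h3 := hO₂.fix hz'
    refine hO₂.principal h2 hz' h3 ?_
    by_contra h4
    exact h2 ⟨h3, h4⟩

end

end Groth.Agent.Models.K399.TMain
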