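import Groth.Agent.Models.K399.TBlow

/-!
# Towers of models
-/

set_option autoImplicit false
universe u

open CategoryTheory CategoryTheory.Limits AlgebraicGeometry IsLocalRing TopologicalSpace

namespace Groth.Agent.Models.K399.TOver

open Groth.Agent.Models.K399.QStalk Groth.Agent.Models.K399.QReg Groth.Agent.Models.K399.QFinal
  Groth.Agent.Models.K399.TBase

theorem aug_map {A B : Type u} [CommRing A] [CommRing B] {φ : A →+* A} {ψ : B →+* B} (e : A ≃+* B)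
    (h : ∀ a, e (φ a) = ψ (e a)) : (aug φ).map e.toRingHom = aug ψ := by
  unfold aug
  rw [Ideal.map_span]
  congr 1
  ext b
  constructor
  · rintro ⟨_, ⟨a, rfl⟩, rfl⟩
    refine ⟨e a, ?_⟩
    change ψ (e a) - e a = e (φ a - a)
    rw [map_sub, h]
  · rintro ⟨b, rfl⟩
    refine ⟨_, ⟨e.symm b, rfl⟩, ?_⟩
    change e (φ (e.symm b) - e.symm b) = ψ b - b
    rw [map_sub, h, e.apply_symm_apply]

theorem principal_map {A B : Type u} [CommRing A] [CommRing B] {φ : A →+* A} {ψ : B →+* B} (e : A ≃+* B)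
    (h : ∀ a, e (φ a) = ψ (e a)) (hp : (aug φ).IsPrincipal) : (aug ψ).IsPrincipal := by
  obtain ⟨g, hg⟩ := hp
  refine ⟨e g, ?_⟩
  rw [← aug_map e h, hg]
  exact (Ideal.map_span _ _).trans (by rw [Set.image_singleton]; rfl)

/-- The map of stalks for `g x' = z`. -/
noncomputable def stk {X' X : Scheme.{u}} (g : X' ⟶ X) (x' : X') (z : X) (h : g x' = z) :
    X.presheaf.stalk z →+* X'.presheaf.stalk x' :=
  (X.presheaf.stalkSpecializes (specializes_of_eq h) ≫ g.stalkMap x').hom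

theorem stk_germ {X' X : Scheme.{u}} (g : X' ⟶ X) (x' : X') (z : X) (h : g x' = z) (U : X.Opens) (hU : z ∈ U)
    (s : Γ(X, U)) : stk g x' z h (X.presheaf.germ U z hU s) =
      X'.presheaf.germ (g ⁻¹ᵁ U) x' (show g x' ∈ U by rw [h]; exact hU) (g.app U s) := by
  unfold stk
  have h1 := congrArg (fun k => k.hom s)
    (TopCat.Presheaf.germ_stalkSpecializes X.presheaf (U := U) (y := z) hU (specializes_of_eq h))
  have h2 := Scheme.Hom.germ_stalkMap_apply g U x' (show g x' ∈ U by rw [h]; exact hU) s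
  refine Eq.trans ?_ h2
  exact congrArg (fun k => (g.stalkMap x').hom k) h1

theorem stk_rfl {X' X : Scheme.{u}} (g : X' ⟶ X) (x' : X') : stk g x' (g x') rfl = (g.stalkMap x').hom := by
  ext b
  obtain ⟨U, hU, s, rfl⟩ := TopCat.Presheaf.exists_germ_eq X.presheaf b
  rw [stk_germ]
  exact (Scheme.Hom.germ_stalkMap_apply g U x' hU s).symm

theorem stk_congr {X' X : Scheme.{u}} {g g' : X' ⟶ X} (hg : g = g') (x' : X') (z : X) (h : g x' = z) :
    stk g x' z h = stk g' x' z (by rw [← hg]; exact h) := by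
  subst hg; rfl

theorem stk_comp {X'' X' X : Scheme.{u}} (f : X'' ⟶ X') (g : X' ⟶ X) (x'' : X'') (x' : X') (z : X)
    (hf : f x'' = x') (hg : g x' = z) (h : (f ≫ g) x'' = z) (b : X.presheaf.stalk z) :
    stk (f ≫ g) x'' z h b = stk f x'' x' hf (stk g x' z hg b) := by
  obtain ⟨U, hU, s, rfl⟩ := TopCat.Presheaf.exists_germ_eq X.presheaf b
  rw [stk_germ, stk_germ]
  have h3 := stk_germ f x'' x' hf (g ⁻¹ᵁ U) (show g x' ∈ U by rw [hg]; exact hU) (g.app U s)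
  rw [h3]
  rfl

theorem stalkAct_eq {X : Scheme.{u}} (σ : X ⟶ X) (z : X) (hz : σ z = z) : stalkAct σ z hz = stk σ z z hz := rfl

/-- Equivariance of the maps of stalks. -/
theorem stk_comm {X' X : Scheme.{u}} {g : X' ⟶ X} {τ : X ⟶ X} {τ' : X' ⟶ X'} (hτ : τ' ≫ g = g ≫ τ)
    (x' : X') (z : X) (h : g x' = z) (hx' : τ' x' = x') (hz : τ z = z) (b : X.presheaf.stalk z) :
    stk g x' z h (stalkAct τ z hz b) = stalkAct τ' x' hx' (stk g x' z h b) := by
  rw [stalkAct_eq, stalkAct_eq]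
  have h1 : (τ' ≫ g) x' = z := by rw [Scheme.Hom.comp_apply, hx', h]
  have h2 : (g ≫ τ) x' = z := by rw [Scheme.Hom.comp_apply, h, hz]
  rw [← stk_comp τ' g x' x' z hx' h h1, ← stk_comp g τ x' z z h hz h2]
  exact congrArg (fun k : X.presheaf.stalk z →+* X'.presheaf.stalk x' => k b)
    (stk_congr hτ x' z h1).symm

theorem stk_bijective {X' X : Scheme.{u}} (g : X' ⟶ X) (x' : X') (z : X) (h : g x' = z)
    [IsIso (g.stalkMap x')] : Function.Bijective (stk g x' z h) := by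
  subst h
  rw [stk_rfl]
  exact (asIso (g.stalkMap x')).commRingCatIsoToRingEquiv.bijective

/-- `g` is compatible with the automorphisms and an isomorphism outside `Z`. -/
structure Over {XR XR' : Scheme.{u}} (τ : XR ≅ XR) (τ' : XR' ≅ XR') (g : XR' ⟶ XR) (Z : Set XR) : Prop where
  comm : τ'.hom ≫ g = g ≫ τ.hom
  iso : ∀ x', g x' ∉ Z → IsIso (g.stalkMap x')
  inj : ∀ x₁ x₂, g x₁ ∉ Z → g x₁ = g x₂ → x₁ = x₂

theorem Over.fix {XR XR' : Scheme.{u}} {τ : XR ≅ XR} {τ' : XR' ≅ XR'} {g : XR' ⟶ XR} {Z : Set XR}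
    (h : Over τ τ' g Z) {x' : XR'} (hx' : τ'.hom x' = x') : τ.hom (g x') = g x' := by
  rw [← Scheme.Hom.comp_apply, ← h.comm, Scheme.Hom.comp_apply, hx']

theorem Over.fix' {XR XR' : Scheme.{u}} {τ : XR ≅ XR} {τ' : XR' ≅ XR'} {g : XR' ⟶ XR} {Z : Set XR}
    (h : Over τ τ' g Z) {x' : XR'} (hZ : g x' ∉ Z) (hx : τ.hom (g x') = g x') : τ'.hom x' = x' := by
  refine (h.inj x' (τ'.hom x') hZ ?_).symm
  rw [← Scheme.Hom.comp_apply, h.comm, Scheme.Hom.comp_apply, hx]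

theorem Over.principal {XR XR' : Scheme.{u}} {τ : XR ≅ XR} {τ' : XR' ≅ XR'} {g : XR' ⟶ XR} {Z : Set XR}
    (h : Over τ τ' g Z) {x' : XR'} (hZ : g x' ∉ Z) (hx' : τ'.hom x' = x') (hx : τ.hom (g x') = g x')
    (hp : (augIdeal τ.hom (g x') hx).IsPrincipal) : (augIdeal τ'.hom x' hx').IsPrincipal := by
  have := h.iso x' hZ
  exact principal_map (RingEquiv.ofBijective _ (stk_bijective g x' (g x') rfl))
    (fun a => stk_comm h.comm x' (g x') rfl hx' hx a) hp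

theorem Over.comp {X₀ X₁ X₂ : Scheme.{u}} {τ₀ : X₀ ≅ X₀} {τ₁ : X₁ ≅ X₁} {τ₂ : X₂ ≅ X₂} {g : X₁ ⟶ X₀}
    {g' : X₂ ⟶ X₁} {Z : Set X₀} {Z' : Set X₁} {W : Set X₀} (h : Over τ₀ τ₁ g Z) (h' : Over τ₁ τ₂ g' Z')
    (hZ : Z ⊆ W) (hZ' : ∀ x ∈ Z', g x ∈ W) : Over τ₀ τ₂ (g' ≫ g) W := by
  have key : ∀ x, (g' ≫ g) x ∉ W → g (g' x) ∉ Z ∧ g' x ∉ Z' := by
    intro x hx
    exact ⟨fun h1 => hx (hZ h1), fun h1 => hx (hZ' _ h1)⟩
  refine ⟨?_, fun x hx => ?_, fun x y hx hxy => ?_⟩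
  · rw [← Category.assoc, h'.comm, Category.assoc, h.comm, Category.assoc]
  · have h1 : IsIso (g.stalkMap (g' x)) := h.iso _ (key x hx).1
    have h2 : IsIso (g'.stalkMap x) := h'.iso _ (key x hx).2
    have h3 := IsIso.comp_isIso' h1 h2
    rw [Scheme.Hom.stalkMap_comp]
    exact h3
  · exact h'.inj _ _ (key x hx).2 (h.inj _ _ (key x hx).1 hxy)

theorem Over.id {X₀ : Scheme.{u}} (τ₀ : X₀ ≅ X₀) (Z : Set X₀) : Over τ₀ τ₀ (𝟙 X₀) Z := by
  refine ⟨by rw [Category.comp_id, Category.id_comp], fun _ _ => inferInstance, fun x y _ h => h⟩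

variable {R : Type u} [CommRing R] [IsDomain R] [IsDiscreteValuationRing R]

/-- `(A, φ)` is solvable: whenever it occurs in a model, there is a model without bad points over it. -/
def Solv (X : Scheme.{u}) (fX : X ⟶ Spec (CommRingCat.of (FractionRing R))) (σ : X ≅ X)
    (A : Type u) [CommRing A] [IsLocalRing A] (φ : A →+* A) : Prop :=
  ∀ (XR : Scheme.{u}) (p : XR ⟶ Spec (CommRingCat.of R)) (j : X ⟶ XR) (τ : XR ≅ XR), Model X fX σ XR p j τ →
    ∀ (z : XR) (hz : τ.hom z = z) (e : XR.presheaf.stalk z ≃+* A), (∀ b, e (stalkAct τ.hom z hz b) = φ (e b)) →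
      ∃ (XR' : Scheme.{u}) (p' : XR' ⟶ Spec (CommRingCat.of R)) (j' : X ⟶ XR') (τ' : XR' ≅ XR') (g : XR' ⟶ XR),
        Model X fX σ XR' p' j' τ' ∧ Over τ τ' g {z} ∧
          ∀ (z' : XR') (hz' : τ'.hom z' = z'), g z' = z → (augIdeal τ'.hom z' hz').IsPrincipal

variable {X : Scheme.{u}} {fX : X ⟶ Spec (CommRingCat.of (FractionRing R))} {σ : X ≅ X}

omit [IsDomain R] [IsDiscreteValuationRing R] in
theorem Solv.congr {A B : Type u} [CommRing A] [CommRing B] [IsLocalRing A] [IsLocalRing B] {φ : A →+* A}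
    {ψ : B →+* B} (e : A ≃+* B) (h : ∀ a, e (φ a) = ψ (e a)) (hA : Solv X fX σ A φ) : Solv X fX σ B ψ := by
  intro XR p j τ hM z hz e' he'
  refine hA XR p j τ hM z hz (e'.trans e.symm) fun b => ?_
  change e.symm (e' (stalkAct τ.hom z hz b)) = φ (e.symm (e' b))
  rw [he', e.symm_apply_eq, h, e.apply_symm_apply]

omit [IsDomain R] [IsDiscreteValuationRing R] in
theorem Solv.good {A : Type u} [CommRing A] [IsLocalRing A] {φ : A →+* A} (h : (aug φ).IsPrincipal) :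
    Solv X fX σ A φ := by
  intro XR p j τ hM z hz e he
  refine ⟨XR, p, j, τ, 𝟙 XR, hM, Over.id τ _, ?_⟩
  rintro z' hz' h1
  change z' = z at h1
  subst h1
  refine principal_map (ψ := stalkAct τ.hom z' hz') e.symm (fun a => ?_) h
  rw [e.symm_apply_eq, he, e.apply_symm_apply]

/-- Finitely many solvable points. -/
theorem exists_finite (n : ℕ) : ∀ (XR : Scheme.{u}) (p : XR ⟶ Spec (CommRingCat.of R)) (j : X ⟶ XR)
    (τ : XR ≅ XR), Model X fX σ XR p j τ → ∀ (S : Set XR), S.Finite → S.ncard ≤ n →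
    (∀ s ∈ S, ∃ hs : τ.hom s = s, Solv X fX σ (XR.presheaf.stalk s) (stalkAct τ.hom s hs)) →
    ∃ (XR' : Scheme.{u}) (p' : XR' ⟶ Spec (CommRingCat.of R)) (j' : X ⟶ XR') (τ' : XR' ≅ XR') (g : XR' ⟶ XR),
        Model X fX σ XR' p' j' τ' ∧ Over τ τ' g S ∧
          ∀ (z' : XR') (hz' : τ'.hom z' = z'), g z' ∈ S → (augIdeal τ'.hom z' hz').IsPrincipal := by
  induction n with
  | zero =>
    intro XR p j τ hM S hS hn hP
    have h0 : S = ∅ := by
      rw [← Set.ncard_eq_zero hS]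
      omega
    subst h0
    exact ⟨XR, p, j, τ, 𝟙 XR, hM, Over.id τ _, fun z' hz' h => h.elim⟩
  | succ n ih =>
    intro XR p j τ hM S hS hn hP
    rcases S.eq_empty_or_nonempty with rfl | ⟨s, hs⟩
    · exact ⟨XR, p, j, τ, 𝟙 XR, hM, Over.id τ _, fun z' hz' h => h.elim⟩
    obtain ⟨hfix, hsol⟩ := hP s hs
    obtain ⟨X₁, p₁, j₁, τ₁, g₁, hM₁, hO₁, hb₁⟩ := hsol XR p j τ hM s hfix (RingEquiv.refl _) (fun _ => rfl)
    let S₁ : Set X₁ := g₁ ⁻¹' (S \ {s})
    have hinj : Set.InjOn g₁ S₁ := fun x hx y _ hxy => hO₁.inj x y hx.2 hxy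
    have hfin : S₁.Finite := Set.Finite.preimage hinj (hS.subset Set.sdiff_subset)
    have hcard : S₁.ncard ≤ n := by
      have h1 : (S \ {s}).ncard = S.ncard - 1 := Set.ncard_sdiff_singleton_of_mem hs
      have h2 : S₁.ncard ≤ (S \ {s}).ncard :=
        Set.ncard_le_ncard_of_injOn g₁ (fun x hx => hx) hinj (hS.subset Set.sdiff_subset)
      omega
    obtain ⟨X₂, p₂, j₂, τ₂, g₂, hM₂, hO₂, hb₂⟩ := ih X₁ p₁ j₁ τ₁ hM₁ S₁ hfin hcard (by
      intro t ht
      obtain ⟨h1, h2⟩ := hP (g₁ t) ht.1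
      have h3 := hO₁.fix' ht.2 h1
      refine ⟨h3, ?_⟩
      have := hO₁.iso t ht.2
      exact h2.congr (RingEquiv.ofBijective _ (stk_bijective g₁ t (g₁ t) rfl))
        (fun a => stk_comm hO₁.comm t (g₁ t) rfl h3 h1 a))
    refine ⟨X₂, p₂, j₂, τ₂, g₂ ≫ g₁, hM₂, hO₁.comp hO₂ (Set.singleton_subset_iff.mpr hs) (fun x hx => hx.1), ?_⟩
    intro z' hz' h1
    by_cases h2 : g₂ z' ∈ S₁
    · exact hb₂ z' hz' h2
    · have h3 : g₁ (g₂ z') = s := by
        by_contra h4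
        exact h2 ⟨h1, h4⟩
      exact hO₂.principal h2 hz' (hO₂.fix hz') (hb₁ _ _ h3)

end Groth.Agent.Models.K399.TOver
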