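import Groth.Agent.Models.K399.TOver
import Groth.Agent.Models.K111.NCBlow
import Groth.Agent.QFin.K585.Basic
import Groth.Agent.Dix.NeronEllA
import Groth.Agent.Dix.RegTwoDim

/-!
# The local rings of a model at bad points
-/

set_option autoImplicit false
universe u

open CategoryTheory CategoryTheory.Limits AlgebraicGeometry IsLocalRing TopologicalSpace

namespace Groth.Agent.Models.K399.TPt

open Groth.Agent.Models.K399.QStalk Groth.Agent.Models.K399.QReg Groth.Agent.Models.K399.QFinal
  Groth.Agent.Models.K399.TBase Groth.Agent.Models.K399.TOver Groth.Agent.Models.K399.TBlow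
  Groth.Agent.Dix.PointIdeal Groth.Agent.Divis.CartierBasic Groth.Agent.Dix.HasBlow Groth.Agent.Dix.ExcPts

/-- The local rings of the blow-up of a closed point. -/
theorem nbr {X W : Scheme.{u}} [IsIntegral X] (hX : IsSurf X) {z : X} (hzc : IsClosed ({z} : Set X))
    (hdim : ringKrullDim (X.presheaf.stalk z) = 2) {b : W ⟶ X} (hb : BlowUp.IsBlowUp b (pt z hzc))
    (q : W) (hq : b q = z) : Nbr (stk b q z hq) ∧
      ((maximalIdeal (X.presheaf.stalk z)).map (stk b q z hq)).IsPrincipal := by
  obtain ⟨hWi, hW, hbir, hiso, -⟩ := isSurf_blowUp hX z hzc hdim b hb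
  have hJ := stalkIdeal_pt z hzc
  refine ⟨⟨?_, K111.NCBlow.isLocalHom_loc b z q hq, K111.NCBlow.exists_frac hb hJ q hq⟩, ?_⟩
  · subst hq
    rw [stk_rfl]
    exact Dix.ExcPts.stalkMap_injective b hbir q
  · obtain ⟨d, -, hd⟩ := K111.NCBlow.exists_map_eq_span hb hJ q hq
    exact ⟨d, hd⟩

theorem perfectField {R : Type u} [CommRing R] [IsLocalRing R] [PerfectField (ResidueField R)]
    {X : Scheme.{u}} (p : X ⟶ Spec (CommRingCat.of R)) [LocallyOfFiniteType p] (z : X)
    (hz : IsClosed ({z} : Set X)) (hpz : p z = closedPoint R) :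
    PerfectField (ResidueField (X.presheaf.stalk z)) := by
  have h1 : IsClosed ({p.asFiber z} : Set (p.fiber (p z))) := by
    have h2 : ({p.asFiber z} : Set (p.fiber (p z))) = (p.fiberι (p z)) ⁻¹' {z} := by
      ext y
      constructor
      · rintro rfl
        exact p.fiberι_asFiber z
      · intro hy
        have hy' : p.fiberι (p z) y = z := hy
        apply (p.fiberι (p z)).isEmbedding.injective
        rw [hy', p.fiberι_asFiber z]
    rw [h2]
    exact hz.preimage (p.fiberι (p z)).continuous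
  rw [K585.QFinBasic.isClosed_asFiber_iff] at h1
  have h3 := Dix.NeronEllA.perfectField_residueField (p z) hpz
  let := (p.residueFieldMap z).hom.toAlgebra
  have h4 : Module.Finite ((Spec (CommRingCat.of R)).residueField (p z)) (X.residueField z) := h1
  exact Algebra.IsAlgebraic.perfectField (K := (Spec (CommRingCat.of R)).residueField (p z)) (L := X.residueField z)

theorem pow_fix {X : Scheme.{u}} {τ : X ≅ X} {z : X} (hz : τ.hom z = z) (n : ℕ) :
    ((show Aut X from τ) ^ n).hom z = z := by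
  induction n with
  | zero => rw [pow_zero]; rfl
  | succ n ih =>
    rw [pow_succ]
    change (τ.hom ≫ ((show Aut X from τ) ^ n).hom) z = z
    rw [Scheme.Hom.comp_apply, hz, ih]

theorem stalkAct_iterate {X : Scheme.{u}} {τ : X ≅ X} {z : X} (hz : τ.hom z = z) (n : ℕ)
    (b : X.presheaf.stalk z) :
    stalkAct ((show Aut X from τ) ^ n).hom z (pow_fix hz n) b = (stalkAct τ.hom z hz)^[n] b := by
  induction n with
  | zero =>
    rw [stalkAct_congr (show ((show Aut X from τ) ^ 0).hom = 𝟙 X by rw [pow_zero]; rfl) z (pow_fix hz 0), stalkAct_id]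
    rfl
  | succ n ih =>
    have h1 : ((show Aut X from τ) ^ (n + 1)).hom = τ.hom ≫ ((show Aut X from τ) ^ n).hom := by
      rw [pow_succ]; rfl
    rw [stalkAct_congr h1 z (pow_fix hz _), stalkAct_comp _ _ z hz (pow_fix hz n), ih, Function.iterate_succ_apply']

theorem iterate_eq {X : Scheme.{u}} {τ : X ≅ X} {ℓ : ℕ} (h : (show Aut X from τ) ^ ℓ = 1) {z : X}
    (hz : τ.hom z = z) (b : X.presheaf.stalk z) : (stalkAct τ.hom z hz)^[ℓ] b = b := by
  rw [← stalkAct_iterate hz ℓ b,
    stalkAct_congr (show ((show Aut X from τ) ^ ℓ).hom = 𝟙 X by rw [h]; rfl) z (pow_fix hz _), stalkAct_id]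
  rfl

variable {R : Type u} [CommRing R] [IsDomain R] [IsDiscreteValuationRing R]
  {X : Scheme.{u}} {fX : X ⟶ Spec (CommRingCat.of (FractionRing R))} {σ : X ≅ X}
  {XR : Scheme.{u}} {p : XR ⟶ Spec (CommRingCat.of R)} {j : X ⟶ XR} {τ : XR ≅ XR}

theorem dim_of_bad (hM : Model X fX σ XR p j τ) (hdX : ∀ c : X, ringKrullDim (X.presheaf.stalk c) ≤ 1)
    {z : XR} (hz : τ.hom z = z) (hbad : ¬ (augIdeal τ.hom z hz).IsPrincipal) :
    ringKrullDim (XR.presheaf.stalk z) = 2 := by
  have hS := isSurf hM hdX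
  by_contra h
  have h1 : Order.coheight z ≤ 1 := by
    rw [Dix.BlowIrr.coheight_eq_two_iff] at h
    exact Order.le_of_lt_add_one (lt_of_le_of_ne (hS.dim z) h)
  have h2 := Dix.BlowIrr.ringKrullDim_le_one z h1
  have := hS.regular z
  have h3 := Groth.Agent.Dix.RegTwoDim.isPrincipalIdealRing (XR.presheaf.stalk z) h2
  exact hbad (IsPrincipalIdealRing.principal _)

theorem isClosed_of_dim (hM : Model X fX σ XR p j τ) (hdX : ∀ c : X, ringKrullDim (X.presheaf.stalk c) ≤ 1)
    {z : XR} (hdim : ringKrullDim (XR.presheaf.stalk z) = 2) : IsClosed ({z} : Set XR) := by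
  have hS := isSurf hM hdX
  exact Ega4B.ElimPt.isClosed_of_coheight hS ((Dix.BlowIrr.coheight_eq_two_iff z).mp hdim)

theorem pt_of_bad [PerfectField (ResidueField R)] (hM : Model X fX σ XR p j τ)
    (hdX : ∀ c : X, ringKrullDim (X.presheaf.stalk c) ≤ 1) {ℓ : ℕ} (hpow : (show Aut XR from τ) ^ ℓ = 1)
    {z : XR} (hz : τ.hom z = z) (hbad : ¬ (augIdeal τ.hom z hz).IsPrincipal) :
    Pt ℓ (stalkAct τ.hom z hz) := by
  have hdim := dim_of_bad hM hdX hz hbad
  refine ⟨hM.regular z, hdim, ?_, ?_, iterate_eq hpow hz⟩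
  · have := hM.proper
    refine perfectField p z (isClosed_of_dim hM hdX hdim) ?_
    by_contra h
    exact notMem_range hM hdX hdim ((K382.AdmBase.mem_range_iff hM.pullback z).mpr h)
  · by_contra h
    push Not at h
    apply hbad
    have h1 : augIdeal τ.hom z hz = ⊥ := by
      unfold augIdeal
      rw [Ideal.span_eq_bot]
      rintro _ ⟨b, rfl⟩
      exact sub_eq_zero.mpr (h b)
    rw [h1]
    exact bot_isPrincipal

end Groth.Agent.Models.K399.TPt
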